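import Groth.Agent.Lib.Torus17.Homotopy
import Groth.Agent.Lib.OX.PullbackFlat
import Groth.Agent.Lib.ModDesc.Approx

/-!
# Homotopy invariance of coherent `K₀` for affine spaces
-/

set_option autoImplicit false
set_option linter.all false
set_option backward.isDefEq.respectTransparency false

universe u

open CategoryTheory CategoryTheory.Limits AlgebraicGeometry TopologicalSpace Opposite

noncomputable section

namespace GrothLib.Torus17

open GrothLib.K0Sub

variable {X Y W : Scheme.{u}}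

instance pullFiniteColimits (f : Y ⟶ X) : PreservesFiniteColimits (Scheme.Modules.pullback f) :=
  haveI : PreservesColimitsOfSize.{0, 0} (Scheme.Modules.pullback f) :=
    (Scheme.Modules.pullbackPushforwardAdjunction f).leftAdjoint_preservesColimits
  PreservesColimitsOfSize.preservesFiniteColimits.{0, 0} _

instance pullFiniteLimits (f : Y ⟶ X) [Flat f] : PreservesFiniteLimits (Scheme.Modules.pullback f) :=
  OX.preservesFiniteLimits_pullback_of_flat f

instance pullAdditive (f : Y ⟶ X) : (Scheme.Modules.pullback f).Additive :=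
  (Scheme.Modules.pullbackPushforwardAdjunction f).left_adjoint_additive

/-- Flat pull-back on coherent classes. -/
def pullH (f : Y ⟶ X) [Flat f] : KZero.K0sub (cohP X) →+ KZero.K0sub (cohP Y) :=
  SGA6.mapSub (Scheme.Modules.pullback f) (cohP X) (cohP Y) fun M hM => ModDesc.isCoh_pullback f M hM

theorem pullH_cl (f : Y ⟶ X) [Flat f] {M : X.Modules} (hM : Coh.IsCoh M) :
    pullH f (KZero.clSub (cohP X) M) = KZero.clSub (cohP Y) ((Scheme.Modules.pullback f).obj M) :=
  mapSub_clSub _ _ _ hM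

theorem pullH_comp [IsLocallyNoetherian W] (g : W ⟶ Y) (f : Y ⟶ X) [Flat g] [Flat f] :
    (pullH g).comp (pullH f) = pullH (g ≫ f) :=
  hom_ext fun M hM => by
    rw [AddMonoidHom.comp_apply, pullH_cl f hM, pullH_cl g (ModDesc.isCoh_pullback f M hM),
      pullH_cl _ hM]
    exact clSub_coh_iso ((Scheme.Modules.pullbackComp g f).app M)

theorem pullH_congr [IsLocallyNoetherian Y] {f g : Y ⟶ X} (h : f = g) [Flat f] [Flat g] :
    pullH f = pullH g := by
  subst h
  rfl

theorem pullH_id [IsLocallyNoetherian X] : pullH (𝟙 X) = AddMonoidHom.id _ :=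
  hom_ext fun M hM => by
    rw [pullH_cl _ hM]
    exact clSub_coh_iso ((Scheme.Modules.pullbackId X).app M)

theorem pullH_bijective_of_isIso [IsLocallyNoetherian X] [IsLocallyNoetherian Y] (f : Y ⟶ X) [IsIso f] :
    Function.Bijective (pullH f) := by
  have h1 : (pullH f).comp (pullH (inv f)) = AddMonoidHom.id _ := by
    rw [pullH_comp, pullH_congr (IsIso.hom_inv_id f), pullH_id]
  have h2 : (pullH (inv f)).comp (pullH f) = AddMonoidHom.id _ := by
    rw [pullH_comp, pullH_congr (IsIso.inv_hom_id f), pullH_id]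
  exact ⟨Function.LeftInverse.injective (DFunLike.congr_fun h2),
    Function.RightInverse.surjective (DFunLike.congr_fun h1)⟩

theorem pullH_bijective_line (X : Scheme.{u}) [IsNoetherian X] [Flat (pi1 X)] :
    Function.Bijective (pullH (pi1 X)) :=
  pullK_bijective X fun M hM => ModDesc.isCoh_pullback (pi1 X) M hM

/-- One more coordinate is a line over the affine space. -/
theorem exists_iso_succ (S : Scheme.{u}) (r : ℕ) :
    ∃ e : 𝔸(ULift.{u} (Fin (r + 1)); S) ≅ 𝔸(n₁; 𝔸(ULift.{u} (Fin r); S)),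
      e.hom ≫ pi1 𝔸(ULift.{u} (Fin r); S) ≫ (𝔸(ULift.{u} (Fin r); S) ↘ S) =
        𝔸(ULift.{u} (Fin (r + 1)); S) ↘ S := by
  let n := ULift.{u} (Fin r)
  let N := ULift.{u} (Fin (r + 1))
  let a : 𝔸(N; S) ⟶ 𝔸(n; S) :=
    AffineSpace.homOfVector (𝔸(N; S) ↘ S) (fun i => AffineSpace.coord S ⟨i.down.castSucc⟩)
  let hom : 𝔸(N; S) ⟶ 𝔸(n₁; 𝔸(n; S)) :=
    AffineSpace.homOfVector a (fun _ => AffineSpace.coord S ⟨Fin.last r⟩)
  let inv : 𝔸(n₁; 𝔸(n; S)) ⟶ 𝔸(N; S) :=
    AffineSpace.homOfVector (pi1 𝔸(n; S) ≫ 𝔸(n; S) ↘ S)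
      (fun i => Fin.lastCases (AffineSpace.coord 𝔸(n; S) t₀)
        (fun j => (pi1 𝔸(n; S)).appTop (AffineSpace.coord S ⟨j⟩)) i.down)
  have ha : a ≫ 𝔸(n; S) ↘ S = 𝔸(N; S) ↘ S := AffineSpace.homOfVector_over _ _
  have haj : ∀ j : Fin r, a.appTop (AffineSpace.coord S (⟨j⟩ : n)) = AffineSpace.coord S (⟨j.castSucc⟩ : N) :=
    fun j => AffineSpace.homOfVector_appTop_coord _ _ _
  have hh : hom ≫ pi1 𝔸(n; S) = a := AffineSpace.homOfVector_over _ _
  have hht : hom.appTop (AffineSpace.coord 𝔸(n; S) t₀) = AffineSpace.coord S (⟨Fin.last r⟩ : N) :=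
    AffineSpace.homOfVector_appTop_coord _ _ _
  have hi : inv ≫ 𝔸(N; S) ↘ S = pi1 𝔸(n; S) ≫ 𝔸(n; S) ↘ S := AffineSpace.homOfVector_over _ _
  have hil : inv.appTop (AffineSpace.coord S (⟨Fin.last r⟩ : N)) = AffineSpace.coord 𝔸(n; S) t₀ :=
    (AffineSpace.homOfVector_appTop_coord _ _ _).trans (by simp)
  have hij : ∀ j : Fin r, inv.appTop (AffineSpace.coord S (⟨j.castSucc⟩ : N)) =
      (pi1 𝔸(n; S)).appTop (AffineSpace.coord S (⟨j⟩ : n)) :=
    fun j => (AffineSpace.homOfVector_appTop_coord _ _ _).trans (by simp)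
  refine ⟨⟨hom, inv, ?_, ?_⟩, ?_⟩
  · apply AffineSpace.hom_ext
    · rw [Category.assoc, hi, ← Category.assoc, hh, ha, Category.id_comp]
    · rintro ⟨i⟩
      rw [Scheme.Hom.comp_appTop, CommRingCat.comp_apply]
      refine Fin.lastCases ?_ (fun j => ?_) i
      · rw [hil, hht, Scheme.Hom.id_appTop, CommRingCat.id_apply]
      · rw [hij, ← CommRingCat.comp_apply, ← Scheme.Hom.comp_appTop, hh, haj, Scheme.Hom.id_appTop,
          CommRingCat.id_apply]
  · apply AffineSpace.hom_ext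
    · rw [Category.assoc, hh, Category.id_comp]
      apply AffineSpace.hom_ext
      · rw [Category.assoc, ha, hi]
      · rintro ⟨j⟩
        rw [Scheme.Hom.comp_appTop, CommRingCat.comp_apply, haj, hij]
    · intro i
      obtain rfl : i = t₀ := Subsingleton.elim _ _
      rw [Scheme.Hom.comp_appTop, CommRingCat.comp_apply, hht, hil, Scheme.Hom.id_appTop, CommRingCat.id_apply]
  · show hom ≫ pi1 𝔸(n; S) ≫ 𝔸(n; S) ↘ S = _
    rw [← Category.assoc, hh, ha]

theorem isNoetherian_affineSpace (S : Scheme.{u}) [IsNoetherian S] (n : Type u) [Finite n] :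
    IsNoetherian 𝔸(n; S) := by
  haveI : LocallyOfFiniteType (𝔸(n; S) ↘ S) := inferInstance
  haveI := LocallyOfFiniteType.isLocallyNoetherian (𝔸(n; S) ↘ S)
  haveI := QuasiCompact.compactSpace_of_compactSpace (𝔸(n; S) ↘ S)
  exact {}

/-- **Homotopy invariance.** -/
theorem pullH_bijective_affineSpace (S : Scheme.{u}) [IsNoetherian S] : ∀ r : ℕ,
    ∀ [Flat (𝔸(ULift.{u} (Fin r); S) ↘ S)],
    Function.Bijective (pullH (𝔸(ULift.{u} (Fin r); S) ↘ S))
  | 0, _ => by
    haveI := isNoetherian_affineSpace S (ULift.{u} (Fin 0))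
    haveI : IsEmpty (ULift.{u} (Fin 0)) := ⟨fun i => i.down.elim0⟩
    exact pullH_bijective_of_isIso _
  | r + 1, _ => by
    haveI := isNoetherian_affineSpace S (ULift.{u} (Fin r))
    haveI := isNoetherian_affineSpace S (ULift.{u} (Fin (r + 1)))
    haveI := isNoetherian_line 𝔸(ULift.{u} (Fin r); S)
    haveI := PicAff26.flat_affineSpace (n := ULift.{u} (Fin r)) (Y := S)
    haveI := PicAff26.flat_affineSpace (n := n₁.{u}) (Y := 𝔸(ULift.{u} (Fin r); S))
    obtain ⟨e, he⟩ := exists_iso_succ S r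
    rw [← pullH_congr he, ← pullH_comp, ← pullH_comp]
    exact ((pullH_bijective_of_isIso e.hom).comp (pullH_bijective_line _)).comp
      (pullH_bijective_affineSpace S r)

end GrothLib.Torus17
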