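import Groth.Agent.Lib.Torus17.Fibre
import Groth.Agent.Lib.FlatClosure.Basic
import Groth.Agent.Lib.ProjFormula.Iso
import Groth.Agent.Lib.OX.LocFreeTensor
import Groth.Agent.Lib.GrTilde.Mul
import Groth.Agent.Lib.AssTensorS10.Fibre
import Groth.Agent.Lib.Euler.Coh

/-!
# Generators of coherent `K₀` from generators on the fibres
-/

set_option autoImplicit false
set_option linter.all false
set_option backward.isDefEq.respectTransparency false

universe u

open CategoryTheory CategoryTheory.Limits AlgebraicGeometry TopologicalSpace Opposite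

noncomputable section

namespace GrothLib.Torus17

open GrothLib.K0Sub

theorem isAffineHom_fromSpecResidueField {S : Scheme.{u}} (s : S) : IsAffineHom (S.fromSpecResidueField s) := by
  refine ⟨fun V hV => ?_⟩
  haveI : Subsingleton ↥(Spec (S.residueField s)) := inferInstanceAs (Subsingleton (PrimeSpectrum _))
  rcases isEmpty_or_nonempty ↥(S.fromSpecResidueField s ⁻¹ᵁ V) with h | ⟨⟨p, hp⟩⟩
  · rw [show S.fromSpecResidueField s ⁻¹ᵁ V = ⊥ from Opens.ext (Set.eq_empty_iff_forall_notMem.2 fun p hp => h.false ⟨p, hp⟩)]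
    exact isAffineOpen_bot _
  · rw [show S.fromSpecResidueField s ⁻¹ᵁ V = ⊤ from top_unique fun q _ => Subsingleton.elim p q ▸ hp]
    exact isAffineOpen_top _

theorem mem_support_of_push {Z Y : Scheme.{u}} (i : Z ⟶ Y) [IsClosedImmersion i] (N : Z.Modules) (z : Z)
    (h : i z ∈ CohB1.support ((Coh.push i).obj N)) : z ∈ CohB1.support N := by
  have hb := QCoh.pushStalkHom_bijective i z N i.isClosedEmbedding.isInducing
  intro hz
  exact h ⟨fun a b => hb.1 (hz.elim _ _)⟩

variable {X S : Scheme.{u}} (f : X ⟶ S)

/-- The classes `E i ⊗ f^* N` for a closed integral base. -/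
theorem clSub_twist_push [IsNoetherian X] [IsNoetherian S] {E : X.Modules} (hE : FlatMod.IsFinLocFree E)
    {Z : Scheme.{u}} (y : Z ⟶ S) [IsClosedImmersion y] :
    KZero.clSub (cohP X) (((DCoh.tensorBi (X := X)).obj E).obj
        ((Scheme.Modules.pullback f).obj ((Coh.push y).obj (Coh.structureModule Z)))) =
      KZero.clSub (cohP X) ((Coh.push (pullback.fst f y)).obj
        ((Scheme.Modules.pullback (pullback.fst f y)).obj E)) := by
  have hsq : IsPullback (pullback.snd f y) (pullback.fst f y) y f := (IsPullback.of_hasPullback f y).flip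
  haveI : (Coh.structureModule Z).IsQuasicoherent :=
    Euler.isQuasicoherent_of_isFinLocFree (Euler.isFinLocFree_of_isInvertible Euler.isInvertible_structure)
  haveI := AffBC.isIso_bcMap hsq (Coh.structureModule Z)
  obtain ⟨e⟩ := GrothLib.Ample.nonempty_pullback_structureModule (X := Z) (pullback.snd f y)
  let m := pullback.fst f y
  haveI := ProjFormula.isIso_projHom m hE (Coh.structureModule (pullback f y))
  exact clSub_coh_iso (((DCoh.tensorBi (X := X)).obj E).mapIso
      (asIso (AffBC.bcMap hsq (Coh.structureModule Z)) ≪≫ (Coh.push _).mapIso e) ≪≫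
    asIso (ProjFormula.projHom m E (Coh.structureModule (pullback f y))) ≪≫
    (Scheme.Modules.pushforward m).mapIso
      (GrTilde.tensorModComm _ _ ≪≫ OX.tensorUnitLeftIso _))

/-- A closed set missing the generic fibre lies over a proper closed subset. -/
theorem exists_closeds_of_forall_ne [IsNoetherian X] [IrreducibleSpace S] {C : Set X} (hC : IsClosed C)
    (h : ∀ x ∈ C, f x ≠ genericPoint S) :
    ∃ D : Closeds S, (D : Set S) ≠ Set.univ ∧ C ⊆ f ⁻¹' (D : Set S) := by
  classical
  obtain ⟨T, hTf, hTc, hTi, hT⟩ := NoetherianSpace.exists_finite_set_isClosed_irreducible hC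
  let D : Closeds S := ⟨⋃ t ∈ T, closure (f '' t), hTf.isClosed_biUnion fun t _ => isClosed_closure⟩
  refine ⟨D, fun hD => ?_, fun x hx => ?_⟩
  · have hη : genericPoint S ∈ (D : Set S) := hD ▸ Set.mem_univ _
    obtain ⟨t, ht, hηt⟩ := Set.mem_iUnion₂.1 hη
    have hti := hTi t ht
    obtain ⟨c, hc⟩ := QuasiSober.sober hti (hTc t ht)
    have hct : c ∈ t := hc.mem
    have h1 : genericPoint S ∈ closure {f c} := by
      refine closure_minimal ?_ isClosed_closure hηt
      rintro _ ⟨z, hz, rfl⟩
      exact (((hc.specializes hz).map f.continuous)).mem_closure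
    have h2 : f c = genericPoint S :=
      ((genericPoint_spec S).specializes (Set.mem_univ (f c))).antisymm
        (specializes_iff_mem_closure.2 h1) |>.eq.symm
    exact h c (hT ▸ Set.mem_sUnion.2 ⟨t, ht, hct⟩) h2
  · obtain ⟨t, ht, hxt⟩ := Set.mem_sUnion.1 (hT ▸ hx)
    exact Set.mem_iUnion₂.2 ⟨t, ht, subset_closure ⟨x, hxt, rfl⟩⟩

variable [IsNoetherian X] [IsNoetherian S] [Flat f] {ι : Type} [Finite ι] (E : ι → X.Modules)

/-- The fibre hypothesis. -/
def FibGen : Prop :=
  ∀ s : S, AddSubgroup.closure (Set.range (fun i : ι =>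
    KZero.clSub (cohP (f.fiber s)) ((Scheme.Modules.pullback (f.fiberι s)).obj (E i)))) = ⊤

/-- The candidate image. -/
def genSub : AddSubgroup (KZero.K0sub (cohP X)) :=
  AddSubgroup.closure {c | ∃ (i : ι) (N : S.Modules), Coh.IsCoh N ∧
    c = KZero.clSub (cohP X) (((DCoh.tensorBi (X := X)).obj (E i)).obj ((Scheme.Modules.pullback f).obj N))}

theorem mem_genSub (hE : ∀ i, FlatMod.IsFinLocFree (E i)) (hfib : FibGen f E) :
    ∀ (T : Closeds S) (M : X.Modules), Coh.IsCoh M →
      CohB1.support M ⊆ f ⁻¹' (T : Set S) → KZero.clSub (cohP X) M ∈ genSub f E := by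
  intro T
  induction T using WellFounded.induction (r := ((· < ·) : Closeds S → Closeds S → Prop))
    wellFounded_lt with
  | _ T ih =>
  intro M hM hsupp
  refine QCoh.devissage (X := X) (fun M => KZero.clSub (cohP X) M ∈ genSub f E)
    (fun A B ⟨e⟩ h => (clSub_coh_iso e) ▸ h)
    (fun A h => by rw [clSub_isZero h]; exact zero_mem _) (fun S hS a b c => ?_) (f ⁻¹' (T : Set S))
    (fun W w _ _ hW => ?_) M hM hsupp
  · have e := clSub_add (P := cohP X) hS a b c
    rw [e]
    refine ⟨fun p q => ?_, fun p q => add_mem p q, fun p q => ?_⟩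
    · simpa using sub_mem q p
    · simpa using sub_mem p q
  refine ⟨(Coh.push w).obj (Coh.structureModule W), QCoh.pushUnit_isCoh w,
    QCoh.support_pushforward_subset_range w _, QCoh.nonempty_pushUnit_stalk_equiv w, ?_⟩
  have hsw : CohB1.support ((Coh.push w).obj (Coh.structureModule W)) ⊆ Set.range w :=
    QCoh.support_pushforward_subset_range w _
  let ξ := f (w (genericPoint W))
  let C : Closeds S := ⟨closure {ξ}, isClosed_closure⟩
  have hCT : C ≤ T := T.isClosed.closure_subset_iff.2 (Set.singleton_subset_iff.2 (hW ⟨_, rfl⟩))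
  have hWC : Set.range w ⊆ f ⁻¹' (C : Set S) := by
    rw [← QCoh.closure_singleton_eq_range w]
    exact (C.isClosed.preimage f.continuous).closure_subset_iff.2
      (Set.singleton_subset_iff.2 (subset_closure rfl))
  rcases hCT.lt_or_eq with hlt | heq
  · exact ih C hlt _ (QCoh.pushUnit_isCoh w) (hsw.trans hWC)
  let Z := (IntMult.ptIdeal ξ).subscheme
  let y : Z ⟶ S := (IntMult.ptIdeal ξ).subschemeι
  have hry : Set.range y = (C : Set S) := RedSub.range_subschemeι_vanishingIdeal C
  haveI : IsReduced Z := RedSub.isReduced_subscheme_vanishingIdeal C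
  haveI : IrreducibleSpace Z := by
    rw [irreducibleSpace_def, Set.top_eq_univ]
    obtain ⟨z, hz⟩ : ξ ∈ Set.range y := hry.symm ▸ subset_closure rfl
    have hpre : closure {z} = (Set.univ : Set _) := by
      rw [y.isClosedEmbedding.isInducing.closure_eq_preimage_closure_image, Set.image_singleton, hz]
      exact Set.eq_univ_of_forall fun v ↦ (hry ▸ ⟨v, rfl⟩ : y v ∈ (C : Set S))
    exact hpre ▸ isIrreducible_singleton.closure
  haveI : IsIntegral Z := isIntegral_of_irreducibleSpace_of_isReduced _
  haveI : IsNoetherian Z := by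
    haveI := LocallyOfFiniteType.isLocallyNoetherian y
    haveI : CompactSpace Z := QuasiCompact.compactSpace_of_compactSpace y
    exact {}
  have hyη : y (genericPoint Z) = ξ := by
    have h1 : closure {y (genericPoint Z)} = closure {ξ} := (QCoh.closure_singleton_eq_range y).trans hry
    exact (inseparable_iff_closure_eq.mpr h1).eq
  let m := pullback.fst f y
  let fZ := pullback.snd f y
  haveI : IsClosedImmersion m := MorphismProperty.pullback_fst (P := @IsClosedImmersion) f y inferInstance
  haveI : IsNoetherian (pullback f y) := by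
    haveI := LocallyOfFiniteType.isLocallyNoetherian m
    haveI : CompactSpace ↥(pullback f y) := QuasiCompact.compactSpace_of_compactSpace m
    exact {}
  obtain ⟨l, hl⟩ := GrpSchField.exists_lift_of_range_subset y (w ≫ f)
    (by rintro _ ⟨v, rfl⟩; rw [hry]; exact hWC ⟨v, rfl⟩)
  let w' : W ⟶ pullback f y := pullback.lift w l hl.symm
  have hw' : w' ≫ m = w := pullback.lift_fst _ _ _
  haveI : IsClosedImmersion w' := by
    haveI : IsClosedImmersion (w' ≫ m) := by rw [hw']; infer_instance
    exact IsClosedImmersion.of_comp w' m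
  obtain ⟨_, _, _⟩ := pushforward_exact m
  let η := genericPoint Z
  haveI := FlatClosure.quasiCompact_fromSpecResidueField η
  haveI : IsAffineHom (Z.fromSpecResidueField η) := isAffineHom_fromSpecResidueField η
  haveI : Flat (Z.fromSpecResidueField η) := FlatClosure.flat_fromSpecResidueField_genericPoint
  let j := fZ.fiberι η
  haveI : IsAffineHom j := MorphismProperty.pullback_fst (P := @IsAffineHom) fZ (Z.fromSpecResidueField η) inferInstance
  haveI : Flat j := MorphismProperty.pullback_fst (P := @Flat) fZ (Z.fromSpecResidueField η) inferInstance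
  haveI : Mono j := MorphismProperty.pullback_fst (P := MorphismProperty.monomorphisms Scheme.{u}) fZ
    (Z.fromSpecResidueField η) (inferInstanceAs (Mono _))
  -- the fibre over `η` is the fibre over `ξ`
  let EZ : ι → (pullback f y).Modules := fun i => (Scheme.Modules.pullback m).obj (E i)
  have hgen : AddSubgroup.closure (Set.range fun i => pullH j (KZero.clSub (cohP (pullback f y)) (EZ i))) = ⊤ := by
    haveI : IsIso (y.residueFieldMap η) := by
      rw [ConcreteCategory.isIso_iff_bijective]
      refine ⟨RingHom.injective _, fun r => ?_⟩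
      obtain ⟨r, rfl⟩ := Z.residue_surjective η r
      obtain ⟨a, rfl⟩ := y.stalkMap_surjective η r
      exact ⟨S.residue (y η) a, by
        rw [← CommRingCat.comp_apply, Scheme.residue_residueFieldMap, CommRingCat.comp_apply]⟩
    have h1 : IsPullback (fZ.fiberToSpecResidueField η) (j ≫ m) (Z.fromSpecResidueField η ≫ y) f :=
      ((IsPullback.of_hasPullback fZ (Z.fromSpecResidueField η)).paste_horiz
        (IsPullback.of_hasPullback f y)).flip
    have hw : (j ≫ m) ≫ f = (fZ.fiberToSpecResidueField η ≫ Spec.map (y.residueFieldMap η)) ≫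
        S.fromSpecResidueField (y η) := by
      rw [← h1.w, Category.assoc (fZ.fiberToSpecResidueField η), y.SpecMap_residueFieldMap_fromSpecResidueField]
    let k : fZ.fiber η ⟶ f.fiber (y η) := pullback.lift (j ≫ m) _ hw
    have hk : k ≫ f.fiberι (y η) = j ≫ m := pullback.lift_fst _ _ _
    have hk2 : k ≫ f.fiberToSpecResidueField (y η) =
        fZ.fiberToSpecResidueField η ≫ Spec.map (y.residueFieldMap η) := pullback.lift_snd _ _ _
    have h2 : IsPullback (fZ.fiberToSpecResidueField η) k (Spec.map (y.residueFieldMap η))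
        (f.fiberToSpecResidueField (y η)) := by
      refine IsPullback.of_bot (v₂₁ := f.fiberι (y η)) (v₂₂ := S.fromSpecResidueField (y η)) ?_ hk2.symm
        (IsPullback.of_hasPullback f (S.fromSpecResidueField (y η))).flip
      rw [hk, y.SpecMap_residueFieldMap_fromSpecResidueField]
      exact h1
    haveI : IsIso k := h2.isIso_snd_of_isIso
    haveI : IsLocallyNoetherian (fZ.fiber η) := AssTensorS10.isLocallyNoetherian_fiber fZ η
    haveI : IsLocallyNoetherian (f.fiber (y η)) := AssTensorS10.isLocallyNoetherian_fiber f (y η)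
    rw [← top_le_iff, ← AddSubgroup.map_top_of_surjective _ (pullH_bijective_of_isIso k).2,
      ← hfib (y η), AddMonoidHom.map_closure, AddSubgroup.closure_le]
    rintro _ ⟨_, ⟨i, rfl⟩, rfl⟩
    refine AddSubgroup.subset_closure ⟨i, ?_⟩
    have hcE := Euler.isCoh_of_isFinLocFree (hE i)
    show pullH j (KZero.clSub _ ((Scheme.Modules.pullback m).obj (E i))) =
      pullH k (KZero.clSub _ ((Scheme.Modules.pullback (f.fiberι (y η))).obj (E i)))
    rw [pullH_cl j (ModDesc.isCoh_pullback m _ hcE), pullH_cl k (ModDesc.isCoh_pullback _ _ hcE)]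
    exact clSub_coh_iso ((Scheme.Modules.pullbackComp j m).app (E i) ≪≫
      (Scheme.Modules.pullbackCongr hk.symm).app (E i) ≪≫
      (Scheme.Modules.pullbackComp k (f.fiberι (y η))).symm.app (E i))
  let L := AddSubgroup.closure (Set.range fun i => KZero.clSub (cohP (pullback f y)) (EZ i))
  have hLK : KZero.clSub (cohP (pullback f y)) ((Coh.push w').obj (Coh.structureModule W)) ∈ L ⊔ vert j := by
    have hmem : pullH j (KZero.clSub (cohP (pullback f y)) ((Coh.push w').obj (Coh.structureModule W))) ∈
        L.map (pullH j) := by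
      rw [AddMonoidHom.map_closure, ← Set.range_comp]
      exact hgen ▸ AddSubgroup.mem_top _
    obtain ⟨a, ha, hae⟩ := hmem
    refine AddSubgroup.mem_sup.2 ⟨a, ha, _, ker_pullH_le_vert j ?_, add_sub_cancel a _⟩
    rw [AddMonoidHom.mem_ker, map_sub, hae, sub_self]
  let μ := SGA6.mapSub (Scheme.Modules.pushforward m) (cohP (pullback f y)) (cohP X) fun N h => isCoh_push m h
  have hwm : KZero.clSub (cohP X) ((Coh.push w).obj (Coh.structureModule W)) =
      μ (KZero.clSub (cohP (pullback f y)) ((Coh.push w').obj (Coh.structureModule W))) := by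
    rw [mapSub_clSub _ _ _ (QCoh.pushUnit_isCoh w')]
    exact clSub_coh_iso ((Scheme.Modules.pushforwardCongr hw'.symm).app _ ≪≫
      (Scheme.Modules.pushforwardComp w' m).symm.app _)
  rw [hwm]
  have hL : L ≤ (genSub f E).comap μ := by
    rw [AddSubgroup.closure_le]
    rintro _ ⟨i, rfl⟩
    show μ _ ∈ genSub f E
    rw [mapSub_clSub _ _ _ (ModDesc.isCoh_pullback m _ (Euler.isCoh_of_isFinLocFree (hE i))),
      ← clSub_twist_push f (hE i) y]
    exact AddSubgroup.subset_closure ⟨i, _, QCoh.pushUnit_isCoh y, rfl⟩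
  have hV : vert j ≤ (genSub f E).comap μ := by
    rw [vert, AddSubgroup.closure_le]
    rintro _ ⟨N, hN, hNj, rfl⟩
    show μ _ ∈ genSub f E
    rw [mapSub_clSub _ _ _ hN]
    haveI := hN.1
    obtain ⟨D, hD, hND⟩ := exists_closeds_of_forall_ne fZ (QCoh.isClosed_support_of_isCoh hN) fun x hx e => by
      obtain ⟨u, hu⟩ : x ∈ Set.range j := by
        show x ∈ Set.range (fZ.fiberι η)
        rw [Scheme.Hom.range_fiberι]; exact e
      exact hNj u (hu ▸ hx)
    let C' : Closeds S := ⟨y '' (D : Set Z), y.isClosedEmbedding.isClosedMap _ D.isClosed⟩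
    have hC' : C' < T := by
      refine lt_of_le_of_ne ?_ fun e => hD (Set.eq_univ_of_forall fun z => ?_)
      · rw [← heq]
        rintro _ ⟨z, -, rfl⟩
        exact hry.le ⟨z, rfl⟩
      · have : y z ∈ (C' : Set S) := by rw [e, ← heq]; exact hry.le ⟨z, rfl⟩
        obtain ⟨z', hz', hzz⟩ := this
        exact y.isClosedEmbedding.injective hzz ▸ hz'
    refine ih C' hC' _ (isCoh_push m hN) fun x hx => ?_
    have h2 := QCoh.support_pushforward_subset_range m N hx
    obtain ⟨v, rfl⟩ := h2
    refine ⟨fZ v, hND ?_, by rw [← Scheme.Hom.comp_apply, ← pullback.condition, Scheme.Hom.comp_apply]⟩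
    exact mem_support_of_push m N v hx
  exact sup_le hL hV hLK

end GrothLib.Torus17
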