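import Groth.Agent.Lib.Torus17.AffSpace
import Groth.Agent.Lib.TFQuot.Basic
import Groth.Agent.Lib.QCoh.SupportPullback

/-!
# Coherent `K₀` of a generic fibre
-/

set_option autoImplicit false
set_option linter.all false
set_option backward.isDefEq.respectTransparency false

universe u

open CategoryTheory CategoryTheory.Limits AlgebraicGeometry TopologicalSpace Opposite

noncomputable section

namespace GrothLib.Torus17

open GrothLib.K0Sub

variable {X U : Scheme.{u}} (j : U ⟶ X)

theorem isIso_unit_id (F : U.Modules) :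
    IsIso ((Scheme.Modules.pullbackPushforwardAdjunction (𝟙 U)).unit.app F) := by
  haveI : (Scheme.Modules.pullback (𝟙 U)).IsEquivalence :=
    Functor.isEquivalence_of_iso (Scheme.Modules.pullbackId U).symm
  infer_instance

/-- For an affine monomorphism pushing forward and pulling back is the identity. -/
theorem isIso_counit_affine_mono [IsAffineHom j] [Mono j] (F : U.Modules) [F.IsQuasicoherent] :
    IsIso ((Scheme.Modules.pullbackPushforwardAdjunction j).counit.app F) := by
  have h : IsPullback (𝟙 U) (𝟙 U) j j := IsKernelPair.id_of_mono j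
  let θ := (Scheme.Modules.pullbackPushforwardAdjunction (𝟙 U)).unit.app F
  haveI : IsIso θ := isIso_unit_id F
  haveI := AffBC.isIso_bcMap h F
  let adj := Scheme.Modules.pullbackPushforwardAdjunction j
  let G := (Scheme.Modules.pushforward (𝟙 U)).obj ((Scheme.Modules.pullback (𝟙 U)).obj F)
  have hv : AffBC.bcV h F = (Scheme.Modules.pushforward j).map θ := by
    refine Scheme.Modules.hom_ext _ _ fun V => AddCommGrpCat.ext fun s => ?_
    simp only [AffBC.bcV, Scheme.Modules.Hom.comp_app, Scheme.Modules.pushforwardComp_hom_app_app,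
      Scheme.Modules.pushforwardCongr_hom_app_app, Scheme.Modules.pushforwardComp_inv_app_app]
    simp
    rfl
  have hb : AffBC.bcMap h F = adj.counit.app F ≫ θ := by
    rw [AffBC.bcMap, hv]
    exact (adj.homEquiv_counit _ _ _).trans (adj.counit.naturality θ)
  haveI : IsIso (adj.counit.app F ≫ θ) := hb ▸ inferInstance
  exact IsIso.of_isIso_comp_right _ θ

/-- Coherent modules extend along an affine flat monomorphism. -/
theorem exists_extension_mono [IsNoetherian X] [IsAffineHom j] [Mono j] [Flat j] (G : U.Modules) (hG : Coh.IsCoh G) :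
    ∃ (Q : X.Modules), Coh.IsCoh Q ∧ Nonempty ((Scheme.Modules.pullback j).obj Q ≅ G) := by
  classical
  haveI := hG.1
  haveI := QCoh.isQuasicoherent_pushforward j G
  obtain ⟨A, _, W, hW, -, hcov⟩ := QCoh.exists_finite_affine_cover (U := (⊤ : X.Opens)) (by simpa using isCompact_univ)
  have hgen : ∀ a, ∃ T : Finset Γ(G, j ⁻¹ᵁ W a), Submodule.span Γ(U, j ⁻¹ᵁ W a) (T : Set Γ(G, j ⁻¹ᵁ W a)) = ⊤ :=
    fun a => (QCoh.moduleFinite_of_isFiniteType G hG.2 ((hW a).preimage j)).fg_top
  choose T hT using hgen
  obtain ⟨Q, hQ, hQw⟩ := FTIdeals9.exists_locGen_family (F := (Scheme.Modules.pushforward j).obj G)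
    (κ := Σ a, T a) (fun p => W p.1) (fun p => (hW p.1).isCompact) (fun p => p.2.1)
  haveI := hQ.isQuasicoherent
  have hQc : Coh.IsCoh Q.obj := ⟨inferInstance, hQ.isFiniteType⟩
  let adj := Scheme.Modules.pullbackPushforwardAdjunction j
  let h : (Scheme.Modules.pullback j).obj Q.obj ⟶ G := (Scheme.Modules.pullback j).map Q.ι ≫ adj.counit.app G
  haveI : Mono Q.ι := ⟨fun g g' e => Scheme.Modules.hom_ext _ _ fun V => by
    refine AddCommGrpCat.hom_ext (AddMonoidHom.ext fun y => Q.ι_app_injective V ?_)
    exact ConcreteCategory.congr_hom (congrArg (fun t => Scheme.Modules.Hom.app t V) e) y⟩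
  haveI : IsIso (adj.counit.app G) := isIso_counit_affine_mono j G
  haveI : Mono h := mono_comp _ _
  haveI : ((Scheme.Modules.pullback j).obj Q.obj).IsQuasicoherent := (ModDesc.isCoh_pullback j _ hQc).1
  haveI : Epi h := by
    refine TFQuot.epi_of_cover h (fun a => j ⁻¹ᵁ W a) (fun a => (hW a).preimage j)
      (fun x => Opens.mem_iSup.1 (hcov (Opens.mem_top (j x))) |>.imp fun a ha => ha) fun a z => ?_
    have hz : z ∈ LinearMap.range (QCoh.appLinear h (j ⁻¹ᵁ W a)) := by
      have : Submodule.span Γ(U, j ⁻¹ᵁ W a) (T a : Set Γ(G, j ⁻¹ᵁ W a)) ≤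
          LinearMap.range (QCoh.appLinear h (j ⁻¹ᵁ W a)) := by
        refine Submodule.span_le.2 fun t ht => ⟨(adj.unit.app Q.obj).app (W a) (Q.lift t (hQw ⟨a, t, ht⟩)), ?_⟩
        have e1 : adj.unit.app Q.obj ≫ (Scheme.Modules.pushforward j).map h = Q.ι := by
          refine (adj.homEquiv_unit _ _ h).symm.trans ?_
          rw [show h = (adj.homEquiv _ _).symm Q.ι from (adj.homEquiv_counit _ _ _).symm, Equiv.apply_symm_apply]
        have e2 := ConcreteCategory.congr_hom (congrArg (fun φ => Scheme.Modules.Hom.app φ (W a)) e1)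
          (Q.lift t (hQw ⟨a, t, ht⟩))
        exact e2.trans (Q.ι_app_lift t _)
      exact this (hT a ▸ Submodule.mem_top)
    exact hz
  haveI : IsIso h := isIso_of_mono_of_epi h
  exact ⟨Q.obj, hQc, ⟨asIso h⟩⟩

variable [IsNoetherian X]

/-- Classes of the modules whose support avoids `U`. -/
def vert : AddSubgroup (KZero.K0sub (cohP X)) :=
  AddSubgroup.closure {c | ∃ M : X.Modules, Coh.IsCoh M ∧ (∀ u : U, j u ∉ CohB1.support M) ∧
    c = KZero.clSub (cohP X) M}

theorem clSub_mem_vert [Flat j] {M : X.Modules} (hM : Coh.IsCoh M)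
    (h : IsZero ((Scheme.Modules.pullback j).obj M)) : KZero.clSub (cohP X) M ∈ vert j := by
  refine AddSubgroup.subset_closure ⟨M, hM, fun u hu => ?_, rfl⟩
  have := QCoh.support_pullback j M hM
  rw [K0Sub.support_eq_empty_of_isZero h] at this
  exact (Set.eq_empty_iff_forall_notMem.1 this.symm u) hu

theorem sub_mem_vert_of_isIso [Flat j] {A B : X.Modules} (f : A ⟶ B) (hA : Coh.IsCoh A) (hB : Coh.IsCoh B)
    [IsIso ((Scheme.Modules.pullback j).map f)] :
    KZero.clSub (cohP X) A - KZero.clSub (cohP X) B ∈ vert j := by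
  have hK := QCoh.isCoh_kernel f hA hB
  have hC := QCoh.isCoh_cokernel f hA hB
  have hI : Coh.IsCoh (Abelian.image f) := QCoh.isCoh_kernel _ hB hC
  obtain ⟨w, hS⟩ := QCoh.shortExact_kernel_image f
  have e1 := clSub_add (P := cohP X) hS hK hA hI
  have e2 := clSub_add (P := cohP X) (QCoh.shortExact_image_cokernel f) hI hB hC
  have h1 : IsZero ((Scheme.Modules.pullback j).obj (kernel f)) :=
    (isZero_kernel_of_mono ((Scheme.Modules.pullback j).map f)).of_iso
      (PreservesKernel.iso (Scheme.Modules.pullback j) f)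
  have h2 : IsZero ((Scheme.Modules.pullback j).obj (cokernel f)) :=
    (isZero_cokernel_of_epi ((Scheme.Modules.pullback j).map f)).of_iso
      (PreservesCokernel.iso (Scheme.Modules.pullback j) f)
  dsimp only at e1 e2
  rw [e1, e2, show ∀ a b c : KZero.K0sub (cohP X), (a + b) - (b + c) = a - c from fun _ _ _ => by abel]
  exact AddSubgroup.sub_mem _ (clSub_mem_vert j hK h1) (clSub_mem_vert j hC h2)

theorem sub_mem_vert_of_iso [Flat j] [IsAffineHom j] [Mono j] {A B : X.Modules} (hA : Coh.IsCoh A)
    (hB : Coh.IsCoh B) {G : U.Modules} [G.IsQuasicoherent]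
    (a : (Scheme.Modules.pullback j).obj A ≅ G) (b : (Scheme.Modules.pullback j).obj B ≅ G) :
    KZero.clSub (cohP X) A - KZero.clSub (cohP X) B ∈ vert j := by
  haveI := hA.1
  haveI := hB.1
  haveI := QCoh.isQuasicoherent_pushforward j G
  haveI := (QCoh.isCoh_biprod' hA hB).1
  let adj := Scheme.Modules.pullbackPushforwardAdjunction j
  let α := adj.homEquiv _ _ a.hom
  let β := adj.homEquiv _ _ b.hom
  haveI : (kernel (biprod.desc α (-β))).IsQuasicoherent := QCoh.isQuasicoherent_kernel _
  let P := pullback α β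
  let eP : kernel (biprod.desc α (-β)) ≅ P :=
    ((Abelian.PullbackToBiproductIsKernel.isLimitPullbackToBiproduct α β).conePointUniqueUpToIso
      (kernelIsKernel _)).symm
  have hP : Coh.IsCoh P := QCoh.isCoh_of_iso eP ⟨inferInstance,
    QCoh.isFiniteType_of_mono (kernel.ι _) (QCoh.isCoh_biprod' hA hB).2⟩
  haveI := isIso_counit_affine_mono j G
  have hiso : ∀ (A : X.Modules) (φ : (Scheme.Modules.pullback j).obj A ⟶ G), IsIso φ →
      IsIso ((Scheme.Modules.pullback j).map (adj.homEquiv A G φ)) := by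
    intro A φ _
    have e : (Scheme.Modules.pullback j).map (adj.homEquiv A G φ) ≫ adj.counit.app G = φ :=
      (adj.homEquiv_counit A G (adj.homEquiv A G φ)).symm.trans (Equiv.symm_apply_apply _ _)
    haveI : IsIso ((Scheme.Modules.pullback j).map (adj.homEquiv A G φ) ≫ adj.counit.app G) := by
      rw [e]; infer_instance
    exact IsIso.of_isIso_comp_right _ (adj.counit.app G)
  haveI := hiso A a.hom inferInstance
  haveI := hiso B b.hom inferInstance
  have H := (IsPullback.of_hasPullback α β).map (Scheme.Modules.pullback j)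
  haveI : IsIso ((Scheme.Modules.pullback j).map (pullback.fst α β)) := H.isIso_fst_of_isIso
  haveI : IsIso ((Scheme.Modules.pullback j).map (pullback.snd α β)) := H.isIso_snd_of_isIso
  have := AddSubgroup.sub_mem _ (sub_mem_vert_of_isIso j (pullback.snd α β) hP hB)
    (sub_mem_vert_of_isIso j (pullback.fst α β) hP hA)
  rwa [sub_sub_sub_cancel_left] at this

/-- Classes vanishing on `U` are supported off `U`. -/
theorem ker_pullH_le_vert [Flat j] [IsAffineHom j] [Mono j] : (pullH j).ker ≤ vert j := by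
  classical
  let Q := KZero.K0sub (cohP X) ⧸ vert j
  let φ : U.Modules → Q := fun G =>
    if hG : Coh.IsCoh G then
      QuotientAddGroup.mk (KZero.clSub (cohP X) (exists_extension_mono j G hG).choose) else 0
  have hφ : ∀ (G : U.Modules), Coh.IsCoh G → ∀ (F : X.Modules), Coh.IsCoh F →
      ((Scheme.Modules.pullback j).obj F ≅ G) → φ G = QuotientAddGroup.mk (KZero.clSub (cohP X) F) := by
    intro G hG F hF e
    obtain ⟨h0, ⟨e0⟩⟩ := (exists_extension_mono j G hG).choose_spec
    haveI := hG.1
    simp only [φ, dif_pos hG]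
    rw [QuotientAddGroup.eq]
    have := sub_mem_vert_of_iso j hF h0 e e0
    rwa [neg_add_eq_sub]
  obtain ⟨ψ, hψ⟩ := exists_lift (P := cohP U) φ fun S hS h₁ h₂ h₃ => by
    obtain ⟨F, hF, ⟨a⟩⟩ := exists_extension_mono j S.X₂ h₂
    haveI := h₃.1
    haveI := hF.1
    haveI := QCoh.isQuasicoherent_pushforward j S.X₃
    haveI := hS.epi_g
    haveI := isIso_counit_affine_mono j S.X₃
    let adj := Scheme.Modules.pullbackPushforwardAdjunction j
    let q := adj.homEquiv _ _ (a.hom ≫ S.g)
    haveI : (kernel q).IsQuasicoherent := QCoh.isQuasicoherent_kernel q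
    have hK : Coh.IsCoh (kernel q) :=
      ⟨inferInstance, QCoh.isFiniteType_of_mono (kernel.ι q) hF.2⟩
    have hC : Coh.IsCoh (cokernel (kernel.ι q)) := QCoh.isCoh_cokernel _ hK hF
    have hT : (ShortComplex.mk (kernel.ι q) (cokernel.π (kernel.ι q))
        (cokernel.condition _)).ShortExact :=
      ShortComplex.ShortExact.mk' (ShortComplex.exact_cokernel _) inferInstance inferInstance
    have hq : (Scheme.Modules.pullback j).map q ≫ adj.counit.app S.X₃ = a.hom ≫ S.g :=
      (adj.homEquiv_counit _ _ q).symm.trans (Equiv.symm_apply_apply _ _)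
    let e₁ : (Scheme.Modules.pullback j).obj (kernel q) ≅ S.X₁ :=
      PreservesKernel.iso (Scheme.Modules.pullback j) q ≪≫
        kernel.mapIso ((Scheme.Modules.pullback j).map q) S.g a (asIso (adj.counit.app S.X₃)) hq ≪≫
        (IsLimit.conePointUniqueUpToIso hS.fIsKernel (limit.isLimit _)).symm
    let m : cokernel (kernel.ι q) ⟶ (Scheme.Modules.pushforward j).obj S.X₃ :=
      cokernel.desc _ q (kernel.condition q)
    haveI : Mono m := inferInstanceAs (Mono (Abelian.factorThruCoimage q))
    haveI : Epi ((Scheme.Modules.pullback j).map m ≫ adj.counit.app S.X₃) := by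
      have h0 : (Scheme.Modules.pullback j).map (cokernel.π (kernel.ι q)) ≫
          (Scheme.Modules.pullback j).map m ≫ adj.counit.app S.X₃ = a.hom ≫ S.g := by
        rw [← Category.assoc, ← Functor.map_comp, cokernel.π_desc, hq]
      haveI : Epi ((Scheme.Modules.pullback j).map (cokernel.π (kernel.ι q)) ≫
          (Scheme.Modules.pullback j).map m ≫ adj.counit.app S.X₃) := h0 ▸ inferInstance
      exact epi_of_epi ((Scheme.Modules.pullback j).map (cokernel.π (kernel.ι q))) _
    haveI : IsIso ((Scheme.Modules.pullback j).map m ≫ adj.counit.app S.X₃) := isIso_of_mono_of_epi _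
    let e₃ := asIso ((Scheme.Modules.pullback j).map m ≫ adj.counit.app S.X₃)
    rw [hφ _ h₁ _ hK e₁, hφ _ h₂ _ hF a, hφ _ h₃ _ hC e₃, ← QuotientAddGroup.mk_add]
    exact congrArg _ (clSub_add (P := cohP X) hT hK hF hC)
  have hcomp : ψ.comp (pullH j) = QuotientAddGroup.mk' (vert j) := hom_ext fun F hF => by
    rw [AddMonoidHom.comp_apply, pullH_cl j hF, hψ _ (ModDesc.isCoh_pullback j F hF)]
    exact hφ _ (ModDesc.isCoh_pullback j F hF) F hF (Iso.refl _)
  intro x hx
  rw [AddMonoidHom.mem_ker] at hx
  have := DFunLike.congr_fun hcomp x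
  rw [AddMonoidHom.comp_apply, hx, map_zero] at this
  exact (QuotientAddGroup.eq_zero_iff x).1 this.symm

end GrothLib.Torus17
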