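import Groth.Agent.Lib.Torus17.Psi
import Groth.Agent.Lib.AffBC.Basic
import Groth.Agent.Lib.Ample.Product
import Groth.Agent.Lib.GrpSchField.ImageSmooth
import Groth.Agent.Lib.FittSheaf.Pullback
import Mathlib.RingTheory.Polynomial.Basic

/-!
# Homotopy invariance of coherent `K₀` for the affine line
-/

set_option autoImplicit false
set_option linter.all false
set_option backward.isDefEq.respectTransparency false

universe u

open CategoryTheory CategoryTheory.Limits AlgebraicGeometry TopologicalSpace Opposite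

noncomputable section

namespace GrothLib.Torus17

open GrothLib.K0Sub
open GrothLib.CartierDescent (stalkIdeal stalkIdeal_eq stalkIdeal_comap)

/-- A prime of `A[T]` over zero is principal after inverting one element of `A`. -/
theorem exists_pseudo_generator {A : Type u} [CommRing A] [IsDomain A] (P : Ideal (Polynomial A)) [P.IsPrime]
    (hP : ∀ a : A, Polynomial.C a ∈ P → a = 0) (hne : P ≠ ⊥) :
    ∃ (a : A) (g : Polynomial A), a ≠ 0 ∧ g ∈ P ∧ ∀ p ∈ P, ∃ k : ℕ, g ∣ Polynomial.C a ^ k * p := by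
  classical
  obtain ⟨g₀, hg₀, hg₀'⟩ : ∃ g ∈ P, g ≠ 0 := Submodule.exists_mem_ne_zero_of_ne_bot hne
  have hex : ∃ d, ∃ g ∈ P, g ≠ 0 ∧ g.natDegree = d := ⟨_, g₀, hg₀, hg₀', rfl⟩
  obtain ⟨g, hg, hg', hd⟩ := Nat.find_spec hex
  have hmin : ∀ p ∈ P, p ≠ 0 → g.natDegree ≤ p.natDegree := fun p hp hp' =>
    hd ▸ Nat.find_min' hex ⟨p, hp, hp', rfl⟩
  refine ⟨g.leadingCoeff, g, Polynomial.leadingCoeff_ne_zero.2 hg', hg, fun p hp => ?_⟩
  induction hn : p.natDegree using Nat.strong_induction_on generalizing p with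
  | _ d ih =>
    subst hn
    by_cases hp' : p = 0
    · exact ⟨0, by simp [hp']⟩
    have hle := hmin p hp hp'
    let q := Polynomial.C g.leadingCoeff * p -
      Polynomial.C p.leadingCoeff * Polynomial.X ^ (p.natDegree - g.natDegree) * g
    have hq : q ∈ P := sub_mem (P.mul_mem_left _ hp) (P.mul_mem_left _ hg)
    by_cases hq' : q = 0
    · exact ⟨1, _, (sub_eq_zero.1 (by rw [pow_one]; exact hq')).trans (mul_comm _ _)⟩
    have hlt : q.natDegree < p.natDegree := by
      have h1 : (Polynomial.C g.leadingCoeff * p).natDegree = p.natDegree :=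
        Polynomial.natDegree_C_mul (Polynomial.leadingCoeff_ne_zero.2 hg')
      have h2 : (Polynomial.C p.leadingCoeff * Polynomial.X ^ (p.natDegree - g.natDegree) * g).natDegree ≤
          p.natDegree := by
        refine Polynomial.natDegree_mul_le.trans ?_
        have := Polynomial.natDegree_C_mul_X_pow_le p.leadingCoeff (p.natDegree - g.natDegree)
        omega
      rcases Nat.eq_zero_or_pos p.natDegree with h0 | h0
      · exfalso
        rw [Polynomial.eq_C_of_natDegree_eq_zero h0] at hp hp'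
        exact hp' (by rw [hP _ hp, map_zero])
      have hc : q.coeff p.natDegree = 0 := by
        simp only [q, Polynomial.coeff_sub, Polynomial.coeff_C_mul, mul_assoc]
        rw [Polynomial.coeff_X_pow_mul', if_pos (Nat.sub_le _ _), Nat.sub_sub_self hle]
        simp only [Polynomial.coeff_natDegree]
        ring
      refine lt_of_le_of_ne ((Polynomial.natDegree_sub_le _ _).trans (max_le h1.le h2)) fun e => hq' ?_
      rw [← Polynomial.leadingCoeff_eq_zero, Polynomial.leadingCoeff, e, hc]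
    obtain ⟨k, hk⟩ := ih _ hlt q hq rfl
    refine ⟨k + 1, ?_⟩
    have : Polynomial.C g.leadingCoeff ^ (k + 1) * p = Polynomial.C g.leadingCoeff ^ k * q +
        Polynomial.C g.leadingCoeff ^ k * (Polynomial.C p.leadingCoeff *
          Polynomial.X ^ (p.natDegree - g.natDegree)) * g := by
      simp only [q]; ring
    rw [this]
    exact dvd_add hk (dvd_mul_left _ _)

variable (X : Scheme.{u})

/-- The projection of the affine line. -/
abbrev pi1 : 𝔸(n₁; X) ⟶ X := 𝔸(n₁; X) ↘ X

theorem isNoetherian_line [IsNoetherian X] : IsNoetherian 𝔸(n₁; X) := by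
  haveI : LocallyOfFiniteType (pi1 X) := inferInstance
  haveI := LocallyOfFiniteType.isLocallyNoetherian (pi1 X)
  haveI := QuasiCompact.compactSpace_of_compactSpace (pi1 X)
  exact {}

section

variable [(Scheme.Modules.pullback (pi1 X)).Additive]
  [PreservesFiniteLimits (Scheme.Modules.pullback (pi1 X))]
  [PreservesFiniteColimits (Scheme.Modules.pullback (pi1 X))]
  (hf : ∀ M : X.Modules, Coh.IsCoh M → Coh.IsCoh ((Scheme.Modules.pullback (pi1 X)).obj M))

/-- Pull-back to the affine line on classes. -/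
abbrev pullK : KZero.K0sub (cohP X) →+ KZero.K0sub (cohP 𝔸(n₁; X)) :=
  SGA6.mapSub (Scheme.Modules.pullback (pi1 X)) (cohP X) (cohP 𝔸(n₁; X)) hf

/-- The pull-back of the structure sheaf of a closed subscheme. -/
theorem pullK_pushUnit [IsNoetherian X] {Z : Scheme.{u}} (y : Z ⟶ X) [IsClosedImmersion y] :
    pullK X hf (KZero.clSub (cohP X) ((Coh.push y).obj (Coh.structureModule Z))) =
      KZero.clSub (cohP 𝔸(n₁; X))
        ((Coh.push (AffineSpace.map n₁ y)).obj (Coh.structureModule 𝔸(n₁; Z))) := by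
  haveI := isNoetherian_line X
  rw [mapSub_clSub _ _ _ (QCoh.pushUnit_isCoh y)]
  have hsq : IsPullback (𝔸(n₁; Z) ↘ Z) (AffineSpace.map n₁ y) y (𝔸(n₁; X) ↘ X) :=
    (AffineSpace.isPullback_map y).flip
  haveI : (Coh.structureModule Z).IsQuasicoherent :=
    Euler.isQuasicoherent_of_isFinLocFree (Euler.isFinLocFree_of_isInvertible Euler.isInvertible_structure)
  haveI := AffBC.isIso_bcMap hsq (Coh.structureModule Z)
  obtain ⟨e⟩ := GrothLib.Ample.nonempty_pullback_structureModule (X := Z) (𝔸(n₁; Z) ↘ Z)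
  exact clSub_coh_iso (asIso (AffBC.bcMap hsq (Coh.structureModule Z)) ≪≫ (Coh.push _).mapIso e)

theorem pullK_injective [IsNoetherian X] : Function.Injective (pullK X hf) := by
  haveI := isNoetherian_line X
  obtain ⟨_, _, _⟩ := pushforward_exact (sec X)
  obtain ⟨ψ, hψ⟩ := exists_psi X
  let E := SGA6.mapSub (Scheme.Modules.pushforward (sec X)) (cohP X) (killedP (sec X))
    fun M hM => ⟨isCoh_push (sec X) hM, killedByIdeal_push (sec X) M⟩
  have hE : Function.Injective E := (bijective_mapSub_push (sec X) fun M h => isCoh_push (sec X) h).1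
  have key : ψ.comp (pullK X hf) = E := by
    refine hom_ext fun N hN => ?_
    let R : X.Modules → Prop := fun N =>
      ψ.comp (pullK X hf) (KZero.clSub (cohP X) N) = E (KZero.clSub (cohP X) N)
    show R N
    refine QCoh.devissage (X := X) R
      (fun M M' ⟨e⟩ h => by simp only [R] at h ⊢; rw [← clSub_coh_iso e]; exact h)
      (fun M h => by simp only [R]; rw [clSub_isZero h, map_zero, map_zero])
      (fun S hS a b c => ?_) Set.univ (fun Z y _ _ _ => ?_) N hN (Set.subset_univ _)
    · have e := clSub_add (P := cohP X) hS a b c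
      simp only [R, e, map_add]
      refine ⟨fun p q => ?_, fun p q => ?_, fun p q => ?_⟩
      · rwa [p, add_right_inj] at q
      · rw [p, q]
      · rwa [q, add_left_inj] at p
    · refine ⟨(Coh.push y).obj (Coh.structureModule Z), QCoh.pushUnit_isCoh y,
        QCoh.support_pushforward_subset_range y _, QCoh.nonempty_pushUnit_stalk_equiv y, ?_⟩
      simp only [R, AddMonoidHom.comp_apply, pullK_pushUnit X hf y, E]
      rw [mapSub_clSub _ _ _ (QCoh.pushUnit_isCoh y)]
      exact kc_push_map X y ψ hψ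
  intro a b h
  apply hE
  rw [← key, AddMonoidHom.comp_apply, AddMonoidHom.comp_apply, h]

end

/-- A closed integral subscheme of the line over an integral base, dominating the base, is either
everything or has class supported over a proper closed subset. -/
theorem exists_open_clSub_eq_zero {Z W : Scheme.{u}} [IsIntegral Z] [IsNoetherian Z] [IsIntegral W]
    (w : W ⟶ 𝔸(n₁; Z)) [IsClosedImmersion w] (hgen : (w ≫ pi1 Z) (genericPoint W) = genericPoint Z)
    (hne : Set.range w ≠ Set.univ) :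
    ∃ (D : Z.Opens) (O : (𝔸(n₁; Z)).Opens), (D : Set Z).Nonempty ∧ O = pi1 Z ⁻¹ᵁ D ∧
      KZero.clSub (cohP (O : Scheme.{u}))
        ((Scheme.Modules.restrictFunctor O.ι).obj ((Coh.push w).obj (Coh.structureModule W))) = 0 := by
  haveI := isNoetherian_line Z
  haveI : IsIntegral 𝔸(n₁.{u}; Z) := PicAff26.isIntegral_affineSpace n₁
  obtain ⟨_, ⟨B, hB, rfl⟩, hηB, -⟩ :=
    Z.isBasis_affineOpens.exists_subset_of_mem_open (Set.mem_univ (genericPoint Z)) isOpen_univ
  haveI : Nonempty B := ⟨⟨_, hηB⟩⟩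
  let T := PicAff26.tOpen n₁ B
  have hT : IsAffineOpen T := PicAff26.isAffineOpen_tOpen hB
  have hgT : w (genericPoint W) ∈ T := by
    show pi1 Z (w (genericPoint W)) ∈ B
    rw [← Scheme.Hom.comp_apply, hgen]; exact hηB
  haveI : Nonempty (w ⁻¹ᵁ T) := ⟨⟨_, hgT⟩⟩
  let J : Ideal Γ(𝔸(n₁; Z), T) := w.ker.ideal ⟨T, hT⟩
  haveI hJ : J.IsPrime := by
    simp only [J, Scheme.Hom.ker_apply]
    exact RingHom.ker_isPrime _
  let θ : Polynomial Γ(Z, B) ≃+* Γ(𝔸(n₁; Z), T) :=
    ((PicAff26.coordEquiv (n := n₁) hB).trans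
      (MvPolynomial.uniqueAlgEquiv Γ(Z, B) n₁).toRingEquiv).symm
  have hθC : ∀ a, θ (Polynomial.C a) = ((pi1 Z).app B).hom a := fun a => by
    simp only [θ]
    rw [RingEquiv.symm_apply_eq, RingEquiv.trans_apply, PicAff26.coordEquiv_app]
    simp
  let P : Ideal (Polynomial Γ(Z, B)) := J.comap θ.toRingHom
  haveI : P.IsPrime := Ideal.comap_isPrime _ _
  have hP : ∀ a : Γ(Z, B), Polynomial.C a ∈ P → a = 0 := by
    intro a ha
    have h1 : ((w ≫ pi1 Z).app B).hom a = 0 := by
      have h := Ideal.mem_comap.1 ha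
      simp only [J, Scheme.Hom.ker_apply, RingHom.mem_ker, RingEquiv.toRingHom_eq_coe,
        RingEquiv.coe_toRingHom, hθC] at h
      rw [Scheme.Hom.comp_app]
      exact h
    by_contra ha0
    have hu : genericPoint Z ∈ Z.basicOpen a :=
      ((genericPoint_spec Z).mem_open_set_iff (Z.basicOpen a).isOpen).2
        (Set.nonempty_iff_ne_empty.2 fun h => ha0
          ((basicOpen_eq_bot_iff a).1 (Opens.ext (by rwa [Set.univ_inter] at h))))
    have : genericPoint W ∈ (w ≫ pi1 Z) ⁻¹ᵁ Z.basicOpen a := by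
      show (w ≫ pi1 Z) (genericPoint W) ∈ Z.basicOpen a
      rwa [hgen]
    rw [Scheme.preimage_basicOpen, h1, Scheme.basicOpen_zero] at this
    exact this
  have hPne : P ≠ ⊥ := by
    intro h
    have hJ0 : J = ⊥ := by
      rw [eq_bot_iff]
      intro x hx
      have : θ.symm x ∈ P := by
        rw [Ideal.mem_comap]; show θ (θ.symm x) ∈ J; rw [RingEquiv.apply_symm_apply]; exact hx
      rw [h, Ideal.mem_bot, RingEquiv.map_eq_zero_iff] at this
      rw [this]; exact Submodule.zero_mem _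
    refine hne (Set.eq_univ_of_univ_subset ?_)
    have hη : genericPoint 𝔸(n₁; Z) ∈ (T : Set 𝔸(n₁; Z)) :=
      ((genericPoint_spec _).mem_open_set_iff T.isOpen).2 ⟨_, trivial, hgT⟩
    have h2 := Scheme.IdealSheafData.coe_support_inter w.ker ⟨T, hT⟩
    have h3 : genericPoint 𝔸(n₁; Z) ∈ (w.ker.support : Set 𝔸(n₁; Z)) := by
      refine (h2.symm.subset ⟨?_, hη⟩).1
      rw [show w.ker.ideal ⟨T, hT⟩ = ⊥ from hJ0]
      simp
    rw [Scheme.Hom.support_ker, w.isClosedEmbedding.isClosed_range.closure_eq] at h3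
    rw [← genericPoint_closure (α := 𝔸(n₁; Z))]
    exact w.isClosedEmbedding.isClosed_range.closure_subset_iff.2 (Set.singleton_subset_iff.2 h3)
  obtain ⟨a, g, ha, hgP, hdiv⟩ := exists_pseudo_generator P hP hPne
  let D : Z.Opens := Z.basicOpen a
  let O : (𝔸(n₁; Z)).Opens := pi1 Z ⁻¹ᵁ D
  have hDne : (D : Set Z).Nonempty := Set.nonempty_iff_ne_empty.2 fun h =>
    ha ((basicOpen_eq_bot_iff a).1 (Opens.ext h))
  refine ⟨D, O, hDne, rfl, ?_⟩
  have hOT : O ≤ T := (pi1 Z).preimage_mono (Z.basicOpen_le a)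
  let γ : Γ(𝔸(n₁; Z), T) := θ g
  have hu : IsUnit (((𝔸(n₁; Z)).presheaf.map (homOfLE hOT).op) (θ (Polynomial.C a))) := by
    rw [hθC]
    have := (Z.toRingedSpace.isUnit_res_basicOpen a).map ((pi1 Z).app D).hom
    exact (congrArg IsUnit (congrArg (fun φ => φ.hom a)
      ((pi1 Z).naturality (homOfLE (Z.basicOpen_le a)).op))).mp this
  have hst : ∀ x (hx : x ∈ O), stalkIdeal w.ker x =
      Ideal.span {(𝔸(n₁; Z)).presheaf.germ T x (hOT hx) γ} := by
    intro x hx
    rw [stalkIdeal_eq w.ker ⟨T, hT⟩ (hOT hx)]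
    refine le_antisymm (Ideal.map_le_iff_le_comap.2 fun p hp => ?_) ?_
    · obtain ⟨k, c, hk⟩ := hdiv (θ.symm p) (by rw [Ideal.mem_comap]; show θ (θ.symm p) ∈ J; rw [RingEquiv.apply_symm_apply]; exact hp)
      rw [Ideal.mem_comap, Ideal.mem_span_singleton]
      have h1 := congrArg (fun q => (𝔸(n₁; Z)).presheaf.germ T x (hOT hx) (θ q)) hk
      simp only [map_mul, map_pow, RingEquiv.apply_symm_apply] at h1
      have hux : IsUnit ((𝔸(n₁; Z)).presheaf.germ T x (hOT hx) (θ (Polynomial.C a))) := by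
        have := hu.map ((𝔸(n₁; Z)).presheaf.germ O x hx).hom
        rwa [TopCat.Presheaf.germ_res_apply] at this
      exact (hux.pow k).dvd_mul_left.1 ⟨_, h1⟩
    · rw [Ideal.span_le, Set.singleton_subset_iff]
      exact Ideal.mem_map_of_mem _ (Ideal.mem_comap.1 hgP)
  haveI : Nonempty O := by
    obtain ⟨z, hz⟩ := hDne
    exact ⟨⟨sec Z z, show pi1 Z (sec Z z) ∈ D by rw [← Scheme.Hom.comp_apply, sec_over]; exact hz⟩⟩
  haveI : IsIntegral (O : Scheme.{u}) := isIntegral_of_isOpenImmersion O.ι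
  haveI : IsLocallyNoetherian (O : Scheme.{u}) := isLocallyNoetherian_of_isOpenImmersion O.ι
  let w' : pullback O.ι w ⟶ (O : Scheme.{u}) := pullback.fst _ _
  have h0 : KZero.clSub (cohP (O : Scheme.{u})) ((Coh.push w').obj (Coh.structureModule _)) = 0 := by
    let γ' : Γ(𝔸(n₁; Z), O) := (𝔸(n₁; Z)).presheaf.map (homOfLE hOT).op γ
    refine clSub_push_eq_zero w' (O.topIso.inv γ') (fun h => ?_) fun x => ?_
    · have h1 : γ' = 0 := by
        have := congrArg O.topIso.hom h
        rwa [map_zero, ← CommRingCat.comp_apply, Iso.inv_hom_id, CommRingCat.id_apply] at this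
      obtain ⟨z, hz⟩ := ‹Nonempty O›
      have h2 : γ = 0 := by
        haveI : Nonempty T := ⟨⟨z, hOT hz⟩⟩
        apply germ_injective_of_isIntegral (𝔸(n₁; Z)) z (hOT hz)
        rw [map_zero, ← TopCat.Presheaf.germ_res_apply (𝔸(n₁; Z)).presheaf (homOfLE hOT) z hz]
        exact (congrArg _ h1).trans (map_zero _)
      have : g = 0 := (RingEquiv.map_eq_zero_iff θ).1 h2
      obtain ⟨p, hp, hp'⟩ := Submodule.exists_mem_ne_zero_of_ne_bot hPne
      obtain ⟨k, hk⟩ := hdiv p hp
      rw [this, zero_dvd_iff] at hk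
      exact hp' ((mul_eq_zero.1 hk).resolve_left (pow_ne_zero _ (by simpa using ha)))
    · rw [show w'.ker = w.ker.comap O.ι from Scheme.IdealSheafData.ker_fst_of_isClosedImmersion w O.ι,
        stalkIdeal_comap, hst (O.ι x) x.2, Ideal.map_span, Set.image_singleton]
      congr 2
      change O.ι.stalkMap x ((𝔸(n₁; Z)).presheaf.germ T (O.ι x) (hOT x.2) γ) =
        (O : Scheme.{u}).presheaf.germ ⊤ x trivial (O.topIso.inv γ')
      rw [Scheme.Hom.germ_stalkMap_apply,
        ← TopCat.Presheaf.germ_res_apply (O : Scheme.{u}).presheaf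
          (homOfLE (show (⊤ : (O : Scheme.{u}).Opens) ≤ O.ι ⁻¹ᵁ T from fun z _ => hOT z.2)) x trivial]
      congr 1
      simp only [γ', Scheme.Opens.topIso_inv, Scheme.Opens.ι_app, Scheme.Opens.toScheme_presheaf_map,
        ← CommRingCat.comp_apply, ← Functor.map_comp]
      rfl
  rw [← h0]
  haveI : (Coh.structureModule W).IsQuasicoherent :=
    Euler.isQuasicoherent_of_isFinLocFree (Euler.isFinLocFree_of_isInvertible Euler.isInvertible_structure)
  have hsq : IsPullback (pullback.snd O.ι w) w' w O.ι := (IsPullback.of_hasPullback O.ι w).flip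
  haveI := AffBC.isIso_bcMap hsq (Coh.structureModule W)
  obtain ⟨e⟩ := GrothLib.Ample.nonempty_pullback_structureModule (X := W) (pullback.snd O.ι w)
  exact clSub_coh_iso ((Scheme.Modules.restrictFunctorIsoPullback O.ι).app _ ≪≫
    asIso (AffBC.bcMap hsq (Coh.structureModule W)) ≪≫ (Coh.push _).mapIso e)

section

variable [(Scheme.Modules.pullback (pi1 X)).Additive]
  [PreservesFiniteLimits (Scheme.Modules.pullback (pi1 X))]
  [PreservesFiniteColimits (Scheme.Modules.pullback (pi1 X))]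
  (hf : ∀ M : X.Modules, Coh.IsCoh M → Coh.IsCoh ((Scheme.Modules.pullback (pi1 X)).obj M))

theorem mem_range_pullK [IsNoetherian X] : ∀ (T : Closeds X) (M : 𝔸(n₁; X).Modules), Coh.IsCoh M →
    CohB1.support M ⊆ pi1 X ⁻¹' (T : Set X) → KZero.clSub (cohP 𝔸(n₁; X)) M ∈ (pullK X hf).range := by
  haveI := isNoetherian_line X
  intro T
  induction T using WellFounded.induction (r := ((· < ·) : Closeds X → Closeds X → Prop))
    wellFounded_lt with
  | _ T ih =>
  intro M hM hsupp
  refine QCoh.devissage (X := 𝔸(n₁; X))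
    (fun M => KZero.clSub (cohP 𝔸(n₁; X)) M ∈ (pullK X hf).range)
    (fun A B ⟨e⟩ h => (clSub_coh_iso e) ▸ h)
    (fun A h => by rw [clSub_isZero h]; exact zero_mem _) (fun S hS a b c => ?_) (pi1 X ⁻¹' (T : Set X))
    (fun W w _ _ hW => ?_) M hM hsupp
  · have e := clSub_add (P := cohP 𝔸(n₁; X)) hS a b c
    rw [e]
    refine ⟨fun p q => ?_, fun p q => add_mem p q, fun p q => ?_⟩
    · simpa using sub_mem q p
    · simpa using sub_mem p q
  refine ⟨(Coh.push w).obj (Coh.structureModule W), QCoh.pushUnit_isCoh w,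
    QCoh.support_pushforward_subset_range w _, QCoh.nonempty_pushUnit_stalk_equiv w, ?_⟩
  have hsw : CohB1.support ((Coh.push w).obj (Coh.structureModule W)) ⊆ Set.range w :=
    QCoh.support_pushforward_subset_range w _
  let ξ := pi1 X (w (genericPoint W))
  let C : Closeds X := ⟨closure {ξ}, isClosed_closure⟩
  have hCT : C ≤ T := T.isClosed.closure_subset_iff.2 (Set.singleton_subset_iff.2 (hW ⟨_, rfl⟩))
  have hWC : Set.range w ⊆ pi1 X ⁻¹' (C : Set X) := by
    rw [← QCoh.closure_singleton_eq_range w]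
    exact (C.isClosed.preimage (pi1 X).continuous).closure_subset_iff.2
      (Set.singleton_subset_iff.2 (subset_closure rfl))
  rcases hCT.lt_or_eq with hlt | heq
  · exact ih C hlt _ (QCoh.pushUnit_isCoh w) (hsw.trans hWC)
  let Z := (IntMult.ptIdeal ξ).subscheme
  let y : Z ⟶ X := (IntMult.ptIdeal ξ).subschemeι
  have hry : Set.range y = (C : Set X) := RedSub.range_subschemeι_vanishingIdeal C
  haveI : IsReduced Z := RedSub.isReduced_subscheme_vanishingIdeal C
  haveI : IrreducibleSpace Z := by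
    rw [irreducibleSpace_def, Set.top_eq_univ]
    obtain ⟨z, hz⟩ : ξ ∈ Set.range y := hry.symm ▸ subset_closure rfl
    have hpre : closure {z} = (Set.univ : Set _) := by
      rw [y.isClosedEmbedding.isInducing.closure_eq_preimage_closure_image, Set.image_singleton, hz]
      exact Set.eq_univ_of_forall fun v ↦ (hry ▸ ⟨v, rfl⟩ : y v ∈ (C : Set X))
    exact hpre ▸ isIrreducible_singleton.closure
  haveI : IsIntegral Z := isIntegral_of_irreducibleSpace_of_isReduced _
  haveI : IsNoetherian Z := by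
    haveI := LocallyOfFiniteType.isLocallyNoetherian y
    haveI : CompactSpace Z := QuasiCompact.compactSpace_of_compactSpace y
    exact {}
  haveI := isNoetherian_line Z
  obtain ⟨l, hl⟩ := GrpSchField.exists_lift_of_range_subset y (w ≫ pi1 X)
    (by rintro _ ⟨v, rfl⟩; rw [hry]; exact hWC ⟨v, rfl⟩)
  let m := AffineSpace.map n₁ y
  haveI : IsClosedImmersion m :=
    MorphismProperty.of_isPullback (AffineSpace.isPullback_map y).flip inferInstance
  let w' : W ⟶ 𝔸(n₁; Z) := (AffineSpace.isPullback_map y).lift w l hl.symm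
  have hw' : w' ≫ m = w := IsPullback.lift_fst _ _ _ _
  have hw'' : w' ≫ pi1 Z = l := IsPullback.lift_snd _ _ _ _
  haveI : IsClosedImmersion w' := by
    haveI : IsClosedImmersion (w' ≫ m) := by rw [hw']; infer_instance
    exact IsClosedImmersion.of_comp w' m
  have hgen : (w' ≫ pi1 Z) (genericPoint W) = genericPoint Z := by
    apply y.isClosedEmbedding.injective
    rw [hw'', ← Scheme.Hom.comp_apply, hl, Scheme.Hom.comp_apply]
    have h1 : closure {y (genericPoint Z)} = closure {ξ} := (QCoh.closure_singleton_eq_range y).trans hry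
    exact (inseparable_iff_closure_eq.mpr h1).eq.symm
  obtain ⟨_, _, _⟩ := pushforward_exact m
  let μ := SGA6.mapSub (Scheme.Modules.pushforward m) (cohP 𝔸(n₁; Z)) (cohP 𝔸(n₁; X)) fun N h => isCoh_push m h
  have hwm : KZero.clSub (cohP 𝔸(n₁; X)) ((Coh.push w).obj (Coh.structureModule W)) =
      μ (KZero.clSub (cohP 𝔸(n₁; Z)) ((Coh.push w').obj (Coh.structureModule W))) := by
    rw [mapSub_clSub _ _ _ (QCoh.pushUnit_isCoh w')]
    exact clSub_coh_iso ((Scheme.Modules.pushforwardCongr hw'.symm).app _ ≪≫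
      (Scheme.Modules.pushforwardComp w' m).symm.app _)
  rw [hwm]
  by_cases hne : Set.range w' = Set.univ
  · haveI : IsIntegral 𝔸(n₁.{u}; Z) := PicAff26.isIntegral_affineSpace n₁
    haveI : Surjective w' := ⟨Set.range_eq_univ.1 hne⟩
    haveI : IsIso w' := isIso_of_isClosedImmersion_of_surjective w'
    refine ⟨KZero.clSub (cohP X) ((Coh.push y).obj (Coh.structureModule Z)), ?_⟩
    rw [pullK_pushUnit X hf y, mapSub_clSub _ _ _ (QCoh.pushUnit_isCoh w')]
    exact clSub_coh_iso ((Scheme.Modules.pushforward m).mapIso (unitIso w'))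
  obtain ⟨D, O, hDne, hO, h0⟩ := exists_open_clSub_eq_zero w' hgen hne
  let Kc : Closeds 𝔸(n₁; Z) := ⟨(O : Set 𝔸(n₁; Z))ᶜ, O.isOpen.isClosed_compl⟩
  let k := (Scheme.IdealSheafData.vanishingIdeal Kc).subschemeι
  have hk : Set.range k = (Kc : Set 𝔸(n₁; Z)) := RedSub.range_subschemeι_vanishingIdeal Kc
  have hU : Set.range O.ι = (Set.range k)ᶜ := by
    rw [hk, Scheme.Opens.range_ι]
    exact (compl_compl _).symm
  obtain ⟨_, _, _⟩ := pushforward_exact k
  have hj : ∀ N : 𝔸(n₁; Z).Modules, Coh.IsCoh N → Coh.IsCoh ((res O.ι).obj N) :=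
    fun N hN => Cohom.isCoh_restrict N hN O.ι
  obtain ⟨b, hb⟩ := ker_le_range O.ι k hU hj (x := KZero.clSub (cohP 𝔸(n₁; Z))
    ((Coh.push w').obj (Coh.structureModule W))) (by
      rw [AddMonoidHom.mem_ker, mapSub_clSub _ _ _ (QCoh.pushUnit_isCoh w')]; exact h0)
  rw [← hb, ← AddMonoidHom.comp_apply]
  let C' : Closeds X := ⟨y '' (D : Set Z)ᶜ, y.isClosedEmbedding.isClosedMap _ D.isOpen.isClosed_compl⟩
  have hC' : C' < T := by
    refine lt_of_le_of_ne ?_ fun e => ?_
    · rw [← heq]
      rintro _ ⟨z, -, rfl⟩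
      exact hry.le ⟨z, rfl⟩
    · obtain ⟨z, hz⟩ := hDne
      have : y z ∈ (C' : Set X) := by
        rw [e, ← heq]; exact hry.le ⟨z, rfl⟩
      obtain ⟨z', hz', hzz⟩ := this
      exact hz' (y.isClosedEmbedding.injective hzz ▸ hz)
  have hsub : ((μ.comp (pushK k)).range) ≤ (pullK X hf).range := by
    have hq : (QuotientAddGroup.mk' (pullK X hf).range).comp (μ.comp (pushK k)) = 0 :=
      hom_ext fun N hN => by
        rw [AddMonoidHom.comp_apply, AddMonoidHom.comp_apply, mapSub_clSub _ _ _ hN,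
          mapSub_clSub _ _ _ (isCoh_push k hN)]
        refine (QuotientAddGroup.eq_zero_iff _).2 (ih C' hC' _ (isCoh_push m (isCoh_push k hN)) ?_)
        have e := QCoh.support_eq_of_iso ((Scheme.Modules.pushforwardComp k m).app N)
        refine e.le.trans ((QCoh.support_pushforward_subset_range (k ≫ m) N).trans ?_)
        rintro _ ⟨v, rfl⟩
        have hv : k v ∉ O := hk.le ⟨v, rfl⟩
        refine ⟨pi1 Z (k v), fun h => hv (hO ▸ h), ?_⟩
        simp only [Scheme.Hom.comp_apply, m]
        rw [← Scheme.Hom.comp_apply (𝔸(n₁; Z) ↘ Z) y, ← AffineSpace.map_over, Scheme.Hom.comp_apply]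
    rintro _ ⟨x, rfl⟩
    exact (QuotientAddGroup.eq_zero_iff _).1 (DFunLike.congr_fun hq x)
  exact hsub ⟨b, rfl⟩

theorem pullK_bijective [IsNoetherian X] : Function.Bijective (pullK X hf) := by
  refine ⟨pullK_injective X hf, ?_⟩
  have h : (QuotientAddGroup.mk' (pullK X hf).range) = 0 :=
    hom_ext fun M hM => (QuotientAddGroup.eq_zero_iff _).2
      (mem_range_pullK X hf ⊤ M hM (by simp))
  exact fun x => (QuotientAddGroup.eq_zero_iff x).1 (DFunLike.congr_fun h x)

end

end GrothLib.Torus17
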