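import Groth.Agent.Lib.K0Sub.Localization
import Groth.Agent.Lib.K0Sub.Coh
import Groth.Agent.Lib.ArSurf29.Multiple
import Groth.Agent.Lib.CartierDescent.Normal
import Groth.Agent.Lib.Euler.Scalar
import Groth.Agent.Lib.PicAff26.Chart
import Groth.Agent.Lib.QCoh.Devissage

/-!
# Coherent `K₀` of `X × (𝔸¹ - 0)`: the zero section is invisible in `K₀(𝔸¹_X)`
-/

set_option autoImplicit false
set_option linter.all false
set_option backward.isDefEq.respectTransparency false

universe u

open CategoryTheory CategoryTheory.Limits AlgebraicGeometry TopologicalSpace Opposite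

noncomputable section

namespace GrothLib.Torus17

open GrothLib.K0Sub
open GrothLib.CartierDescent (stalkIdeal stalkIdeal_eq stalkIdeal_comap)
open GrothLib.QCoh (stalkLin)

abbrev n₁ : Type u := ULift.{u} (Fin 1)
abbrev t₀ : n₁.{u} := ULift.up 0

/-- The origin of the affine line over the integers. -/
def i0 : Spec (CommRingCat.of (ULift.{u} ℤ)) ⟶ Spec (CommRingCat.of (MvPolynomial n₁.{u} (ULift.{u} ℤ))) :=
  Spec.map (CommRingCat.ofHom MvPolynomial.constantCoeff)

instance : IsClosedImmersion i0.{u} :=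
  IsClosedImmersion.spec_of_surjective _ fun r => ⟨MvPolynomial.C r, MvPolynomial.constantCoeff_C _ _⟩

variable (X : Scheme.{u})

/-- The zero section. -/
def sec : X ⟶ 𝔸(n₁; X) := AffineSpace.homOfVector (𝟙 X) 0

theorem sec_over : sec X ≫ 𝔸(n₁; X) ↘ X = 𝟙 X := AffineSpace.homOfVector_over _ _

theorem isPullback_sec : IsPullback (sec X) (specULiftZIsTerminal.from X) (AffineSpace.toSpecMvPoly n₁ X) i0.{u} := by
  have hw : sec X ≫ AffineSpace.toSpecMvPoly n₁ X = specULiftZIsTerminal.from X ≫ i0 := by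
    rw [sec, AffineSpace.homOfVector_toSpecMvPoly, Equiv.symm_apply_eq]
    funext i
    rw [AffineSpace.toSpecMvPolyIntEquiv_comp]
    simp only [i0, Pi.zero_apply, AffineSpace.toSpecMvPolyIntEquiv_apply]
    rw [← CommRingCat.comp_apply (Scheme.ΓSpecIso _).inv, ← Scheme.ΓSpecIso_inv_naturality,
      CommRingCat.comp_apply, ConcreteCategory.hom_ofHom, MvPolynomial.constantCoeff_X, map_zero, map_zero]
  have H : IsPullback (𝔸(n₁; X) ↘ X) (AffineSpace.toSpecMvPoly n₁ X) (terminal.from X)
      (terminal.from _) := .of_hasPullback _ _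
  refine (IsPullback.paste_horiz_iff H hw).1 ?_
  have e : i0.{u} ≫ terminal.from _ = terminal.from _ := terminal.hom_ext _ _
  rw [sec_over, e]
  haveI : IsIso (terminal.from (Spec (CommRingCat.of (ULift.{u} ℤ)))) :=
    (specULiftZIsTerminal.uniqueUpToIso terminalIsTerminal).isIso_hom
  exact IsPullback.of_horiz_isIso ⟨terminal.hom_ext _ _⟩

instance : IsClosedImmersion (sec X) :=
  MorphismProperty.of_isPullback (isPullback_sec X).flip inferInstance

theorem ker_constantCoeff :
    RingHom.ker (MvPolynomial.constantCoeff : MvPolynomial n₁.{u} (ULift.{u} ℤ) →+* _) =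
      Ideal.span {MvPolynomial.X t₀} := by
  refine le_antisymm (fun p hp => ?_) ?_
  · have key : ∀ q : MvPolynomial n₁.{u} (ULift.{u} ℤ),
        q - MvPolynomial.C (MvPolynomial.constantCoeff q) ∈ Ideal.span {MvPolynomial.X t₀} := by
      intro q
      induction q using MvPolynomial.induction_on with
      | C a => simp
      | add a b ha hb =>
        have := add_mem ha hb
        rw [map_add, map_add]
        convert this using 1
        ring
      | mul_X a i ha =>
        obtain rfl : i = t₀ := Subsingleton.elim _ _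
        simp only [map_mul, MvPolynomial.constantCoeff_X, mul_zero, map_zero, sub_zero]
        exact Ideal.mul_mem_left _ _ (Ideal.mem_span_singleton_self _)
    have := key p
    rwa [RingHom.mem_ker.1 hp, map_zero, sub_zero] at this
  · rw [Ideal.span_le, Set.singleton_subset_iff]
    exact MvPolynomial.constantCoeff_X (R := ULift.{u} ℤ) t₀

theorem stalkIdeal_ker_sec (x : 𝔸(n₁; X)) :
    stalkIdeal (sec X).ker x =
      Ideal.span {(𝔸(n₁; X)).presheaf.germ ⊤ x trivial (AffineSpace.coord X t₀)} := by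
  have h1 : (sec X).ker = i0.{u}.ker.comap (AffineSpace.toSpecMvPoly n₁ X) := by
    rw [← Scheme.IdealSheafData.ker_fst_of_isClosedImmersion i0 (AffineSpace.toSpecMvPoly n₁ X),
      ← (isPullback_sec X).isoPullback_hom_fst, Scheme.Hom.ker_comp_of_isIso]
  let R : CommRingCat.{u} := CommRingCat.of (MvPolynomial n₁.{u} (ULift.{u} ℤ))
  let Xv : Γ(Spec R, ⊤) := (Scheme.ΓSpecIso R).inv (MvPolynomial.X t₀)
  have h2 : RingHom.ker i0.{u}.appTop.hom = Ideal.span {Xv} := by
    ext z
    rw [RingHom.mem_ker, Ideal.mem_span_singleton]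
    have hn : (Scheme.ΓSpecIso (CommRingCat.of (ULift.{u} ℤ))).hom (i0.{u}.appTop z) =
        MvPolynomial.constantCoeff ((Scheme.ΓSpecIso R).hom z) := by
      rw [← CommRingCat.comp_apply, i0, Scheme.ΓSpecIso_naturality]
      rfl
    have hb := (ConcreteCategory.bijective_of_isIso (Scheme.ΓSpecIso (CommRingCat.of (ULift.{u} ℤ))).hom).1
    have hz : (Scheme.ΓSpecIso R).inv ((Scheme.ΓSpecIso R).hom z) = z := by
      rw [← CommRingCat.comp_apply, Iso.hom_inv_id, CommRingCat.id_apply]
    rw [← hb.eq_iff, map_zero, hn, ← RingHom.mem_ker (f := (MvPolynomial.constantCoeff :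
      MvPolynomial n₁.{u} (ULift.{u} ℤ) →+* ULift.{u} ℤ)), ker_constantCoeff, Ideal.mem_span_singleton]
    constructor
    · intro h
      rw [← hz]
      exact map_dvd _ h
    · intro h
      have := map_dvd (Scheme.ΓSpecIso R).hom.hom h
      rwa [show (Scheme.ΓSpecIso R).hom.hom Xv = MvPolynomial.X t₀ from by
        show (Scheme.ΓSpecIso R).hom ((Scheme.ΓSpecIso R).inv (MvPolynomial.X t₀)) = _
        rw [← CommRingCat.comp_apply, Iso.inv_hom_id, CommRingCat.id_apply]] at this
  rw [h1, stalkIdeal_comap, stalkIdeal_eq i0.{u}.ker ⟨⊤, isAffineOpen_top _⟩ (by trivial),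
    Scheme.ker_of_isAffine, h2, Scheme.IdealSheafData.ofIdealTop_ideal]
  rw [Ideal.map_span, Set.image_singleton, Ideal.map_span, Set.image_singleton, Ideal.map_span,
    Set.image_singleton]
  congr 2
  change (AffineSpace.toSpecMvPoly n₁ X).stalkMap x ((Spec R).presheaf.germ ⊤ _ trivial
    ((Spec R).presheaf.map (homOfLE (le_top : (⊤ : (Spec R).Opens) ≤ ⊤)).op Xv)) = _
  rw [show (homOfLE (le_top : (⊤ : (Spec R).Opens) ≤ ⊤)).op = 𝟙 _ from Subsingleton.elim _ _,
    CategoryTheory.Functor.map_id, CommRingCat.id_apply, Scheme.Hom.germ_stalkMap_apply]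
  rfl

theorem range_compl (X : Scheme.{u}) :
    (((𝔸(n₁; X)).basicOpen (AffineSpace.coord X t₀)) : Set 𝔸(n₁; X)) = (Set.range (sec X))ᶜ := by
  ext x
  rw [Set.mem_compl_iff, SetLike.mem_coe, Scheme.mem_basicOpen (X := 𝔸(n₁; X)) (AffineSpace.coord X t₀) x trivial]
  rw [← (sec X).isClosedEmbedding.isClosed_range.closure_eq, ← Scheme.Hom.support_ker]
  rw [show x ∈ ((sec X).ker.support : Set 𝔸(n₁; X)) ↔ stalkIdeal (sec X).ker x ≠ ⊤ from
    (not_iff_comm.1 (GrothLib.CartierDescent.stalkIdeal_eq_top_iff (sec X).ker x).symm).symm,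
    stalkIdeal_ker_sec, not_not, Ideal.span_singleton_eq_top]

/-- The structure sheaf along an isomorphism. -/
def unitIso {Z D : Scheme.{u}} (φ : Z ⟶ D) [IsIso φ] :
    Coh.structureModule D ≅ (Scheme.Modules.pushforward φ).obj (Coh.structureModule Z) :=
  let η : Coh.structureModule D ⟶ (Scheme.Modules.pushforward φ).obj (Coh.structureModule Z) :=
    SheafOfModules.unitToPushforwardObjUnit φ.toRingCatSheafHom
  haveI : IsIso η := by
    rw [Scheme.Modules.Hom.isIso_iff_isIso_app]
    intro U
    rw [ConcreteCategory.isIso_iff_bijective]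
    exact ConcreteCategory.bijective_of_isIso (φ.app U)
  asIso η

/-- A principal ideal sheaf has a quotient with class zero. -/
theorem clSub_push_eq_zero {W Z : Scheme.{u}} [IsIntegral W] [IsLocallyNoetherian W] (i : Z ⟶ W)
    [IsClosedImmersion i] (t : Γ(W, ⊤)) (ht : t ≠ 0)
    (h : ∀ x, stalkIdeal i.ker x = Ideal.span {W.presheaf.germ ⊤ x trivial t}) :
    KZero.clSub (cohP W) ((Coh.push i).obj (Coh.structureModule Z)) = 0 := by
  let O := Coh.structureModule W
  let f : O ⟶ O := Euler.smulMod O t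
  have hv : ∀ x, stalkLin f x (HomSh.unitStalk x 1) = HomSh.unitStalk x (W.presheaf.germ ⊤ x trivial t) := by
    intro x
    rw [Euler.stalkLin_smulMod, ← (HomSh.unitStalk x).map_smul, smul_eq_mul, mul_one]
  have hinj : ∀ x, Function.Injective (stalkLin f x) := by
    intro x a b hab
    rw [Euler.stalkLin_smulMod, Euler.stalkLin_smulMod] at hab
    obtain ⟨a, rfl⟩ := (HomSh.unitStalk x).surjective a
    obtain ⟨b, rfl⟩ := (HomSh.unitStalk x).surjective b
    rw [← (HomSh.unitStalk x).map_smul, ← (HomSh.unitStalk x).map_smul] at hab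
    refine congrArg _ (mul_left_cancel₀ (fun h0 => ht ?_) ((HomSh.unitStalk x).injective hab))
    haveI : Nonempty (⊤ : W.Opens) := ⟨⟨x, trivial⟩⟩
    exact germ_injective_of_isIntegral W x (U := ⊤) trivial (h0.trans (map_zero _).symm)
  let D := i.ker
  obtain ⟨e⟩ := HodgeIndex.nonempty_iso_of_range_eq f (ClSub.idealModι D)
    (inferInstanceAs (Mono (kernel.ι _))) hinj fun x => by
      rw [HodgeIndex.range_idealModι, ArSurf29.goodman_st_eq, h x]
      exact ArSurf29.range_stalkLin_eq_span f (Ref1.gen_unitStalk x) (hv x)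
  have hO : Coh.IsCoh O := Euler.isCoh_of_isInvertible Euler.isInvertible_structure
  have hI : Coh.IsCoh (ClSub.idealMod D) := QCoh.isCoh_of_iso e hO
  haveI := Euler.epi_toSubscheme D
  haveI : Mono (ClSub.idealModι D) := inferInstanceAs (Mono (kernel.ι _))
  have hS : (ShortComplex.mk (ClSub.idealModι D) (ClSub.toSubscheme D) (kernel.condition _)).ShortExact :=
    { exact := ShortComplex.exact_of_f_is_kernel _ (kernelIsKernel (ClSub.toSubscheme D)) }
  have hQ : Coh.IsCoh (ClSub.quotMod D) := QCoh.pushUnit_isCoh D.subschemeι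
  have e1 := clSub_add (P := cohP W) hS hI hO hQ
  dsimp only at e1
  have e2 : KZero.clSub (cohP W) (ClSub.idealMod D) = KZero.clSub (cohP W) O := (clSub_coh_iso e).symm
  have hz : KZero.clSub (cohP W) (ClSub.quotMod D) = 0 := by
    rw [e2] at e1
    exact left_eq_add.1 e1
  let φ : Z ≅ D.subscheme := asIso i.toImage
  have a : (Coh.push i).obj (Coh.structureModule Z) ≅ ClSub.quotMod D :=
    (Scheme.Modules.pushforwardCongr i.toImage_imageι.symm).app _ ≪≫
    (Scheme.Modules.pushforwardComp i.toImage i.imageι).symm.app _ ≪≫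
    (Scheme.Modules.pushforward i.imageι).mapIso (unitIso i.toImage).symm
  rw [clSub_coh_iso a, hz]

/-- The zero section kills `K₀`. -/
theorem pushK_sec_eq_zero [IsNoetherian X]
    [(Scheme.Modules.pushforward (sec X)).Additive] [PreservesFiniteLimits (Scheme.Modules.pushforward (sec X))]
    [PreservesFiniteColimits (Scheme.Modules.pushforward (sec X))] [IsLocallyNoetherian 𝔸(n₁; X)]
    (N : X.Modules) (hN : Coh.IsCoh N) :
    KZero.clSub (cohP 𝔸(n₁; X)) ((Coh.push (sec X)).obj N) = 0 := by
  refine QCoh.devissage (X := X)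
    (fun N => KZero.clSub (cohP 𝔸(n₁; X)) ((Coh.push (sec X)).obj N) = 0)
    (fun M M' ⟨e⟩ h => (clSub_coh_iso ((Coh.push (sec X)).mapIso e)).symm.trans h)
    (fun M h => clSub_isZero (Functor.map_isZero _ h)) (fun S hS a b c => ?_) Set.univ
    (fun Z y _ _ _ => ?_) N hN (Set.subset_univ _)
  · have := clSub_add (P := cohP 𝔸(n₁; X)) (hS.map_of_exact (Coh.push (sec X)))
      (isCoh_push (sec X) a) (isCoh_push (sec X) b) (isCoh_push (sec X) c)
    simp only [ShortComplex.map_X₁, ShortComplex.map_X₂, ShortComplex.map_X₃] at this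
    refine ⟨fun p q => ?_, fun p q => ?_, fun p q => ?_⟩
    · rw [p, q, zero_add] at this; exact this.symm
    · rw [p, q, zero_add] at this; exact this
    · rw [p, q, add_zero] at this; exact this.symm
  refine ⟨(Coh.push y).obj (Coh.structureModule Z), QCoh.pushUnit_isCoh y,
    QCoh.support_pushforward_subset_range y _, QCoh.nonempty_pushUnit_stalk_equiv y, ?_⟩
  haveI : IsLocallyNoetherian Z := LocallyOfFiniteType.isLocallyNoetherian y
  haveI : IsIntegral 𝔸(n₁.{u}; Z) := PicAff26.isIntegral_affineSpace n₁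
  let m : 𝔸(n₁; Z) ⟶ 𝔸(n₁; X) := AffineSpace.map n₁ y
  haveI : IsClosedImmersion m :=
    MorphismProperty.of_isPullback (AffineSpace.isPullback_map y).flip inferInstance
  haveI : IsLocallyNoetherian 𝔸(n₁; Z) := LocallyOfFiniteType.isLocallyNoetherian m
  obtain ⟨_, _, _⟩ := pushforward_exact m
  have ht : AffineSpace.coord Z t₀ ≠ 0 := fun h0 => by
    have h1 := AffineSpace.homOfVector_appTop_coord (𝟙 Z) (fun _ : n₁ => (1 : Γ(Z, ⊤))) t₀
    rw [h0, map_zero] at h1
    exact zero_ne_one h1
  have hz := clSub_push_eq_zero (sec Z) (AffineSpace.coord Z t₀) ht (stalkIdeal_ker_sec Z)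
  have hm : KZero.clSub (cohP 𝔸(n₁; X)) ((Coh.push m).obj ((Coh.push (sec Z)).obj (Coh.structureModule Z))) = 0 := by
    rw [← mapSub_clSub (Scheme.Modules.pushforward m) (cohP 𝔸(n₁; X)) (fun _ h => isCoh_push m h)
      (QCoh.pushUnit_isCoh (sec Z)), hz, map_zero]
  have hc : y ≫ sec X = sec Z ≫ m := by
    apply AffineSpace.hom_ext
    · simp [sec, m]
    · intro i
      simp [sec, m]
  exact (clSub_coh_iso ((Scheme.Modules.pushforwardComp y (sec X)).app _ ≪≫
    (Scheme.Modules.pushforwardCongr hc).app _ ≪≫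
    (Scheme.Modules.pushforwardComp (sec Z) m).symm.app _)).trans hm

end GrothLib.Torus17
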