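import Groth.Agent.Lib.Torus17.Main
import Mathlib.Algebra.Homology.ShortComplex.SnakeLemma

/-!
# The specialisation map `K₀(𝔸¹_X) → K₀(X)` along the zero section
-/

set_option autoImplicit false
set_option linter.all false
set_option backward.isDefEq.respectTransparency false

universe u

open CategoryTheory CategoryTheory.Limits AlgebraicGeometry TopologicalSpace Opposite

noncomputable section

namespace GrothLib.Torus17

open GrothLib.K0Sub
open GrothLib.CartierDescent (stalkIdeal stalkIdeal_eq stalkIdeal_comap)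
open GrothLib.QCoh (stalkLin)

section Killed

variable {Z Y : Scheme.{u}} (i : Z ⟶ Y) [IsClosedImmersion i] [IsLocallyNoetherian Y]

/-- The class in `K₀` of the modules killed by the ideal. -/
abbrev kc (M : Y.Modules) : KZero.K0sub (killedP i) := KZero.clSub (killedP i) M

theorem killedP_iso {A B : Y.Modules} (e : A ≅ B) (h : killedP i A) : killedP i B :=
  killedP_of_mono i e.inv (QCoh.isCoh_of_iso e h.1) h

theorem kc_iso {A B : Y.Modules} (e : A ≅ B) (h : killedP i A) : kc i A = kc i B := by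
  have hZ := isZero_kernel_of_mono e.hom
  have := clSub_add (P := killedP i) (shortExact_kernel e.hom) (killedP_of_isZero i hZ) h (killedP_iso i e h)
  simpa [kc, clSub_isZero hZ] using this

/-- The classes along an exact pair. -/
theorem kc_exact (S : ShortComplex Y.Modules) (hS : S.Exact) (h₁ : killedP i S.X₁) (h₂ : killedP i S.X₂)
    (h₃ : killedP i S.X₃) : kc i S.X₂ = kc i (Abelian.image S.f) + kc i (Abelian.image S.g) := by
  have hc : Coh.IsCoh (cokernel S.f) := QCoh.isCoh_cokernel _ h₁.1 h₂.1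
  have hi₁ : killedP i (Abelian.image S.f) :=
    killedP_of_mono i (Abelian.image.ι S.f) (QCoh.isCoh_kernel _ h₂.1 hc) h₂
  have hc' : Coh.IsCoh (cokernel S.g) := QCoh.isCoh_cokernel _ h₂.1 h₃.1
  have hi₂ : killedP i (Abelian.image S.g) :=
    killedP_of_mono i (Abelian.image.ι S.g) (QCoh.isCoh_kernel _ h₃.1 hc') h₃
  obtain ⟨w, hT⟩ := QCoh.shortExact_kernel_image S.g
  have hk : killedP i (kernel S.g) :=
    killedP_of_mono i (kernel.ι S.g) (QCoh.isCoh_kernel _ h₂.1 h₃.1) h₂
  have e := clSub_add (P := killedP i) hT hk h₂ hi₂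
  let φ : Abelian.image S.f ≅ kernel S.g :=
    { hom := kernel.lift S.g (Abelian.image.ι S.f) (by
        rw [← cancel_epi (Abelian.factorThruImage S.f), ← Category.assoc, Abelian.image.fac, S.zero, comp_zero])
      inv := kernel.lift (cokernel.π S.f) (kernel.ι S.g) (S.exact_iff_kernel_ι_comp_cokernel_π_zero.1 hS)
      hom_inv_id := (cancel_mono (kernel.ι (cokernel.π S.f))).1 (by simp)
      inv_hom_id := (cancel_mono (kernel.ι S.g)).1 (by simp) }
  exact e.trans (congrArg (· + kc i (Abelian.image S.g)) (kc_iso i φ hi₁).symm)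

theorem kc_image_mono {A B : Y.Modules} (f : A ⟶ B) [Mono f] (hA : killedP i A) :
    kc i (Abelian.image f) = kc i A :=
  (kc_iso i (asIso (Abelian.factorThruImage f)) hA).symm

theorem kc_image_epi {A B : Y.Modules} (f : A ⟶ B) [Epi f] (hB : killedP i B) :
    kc i (Abelian.image f) = kc i B :=
  haveI : Epi (Abelian.image.ι f) := epi_of_epi_fac (Abelian.image.fac f)
  haveI := isIso_of_mono_of_epi (Abelian.image.ι f)
  (kc_iso i (asIso (Abelian.image.ι f)).symm hB).symm

end Killed

theorem smulMod_naturality {Y : Scheme.{u}} {A B : Y.Modules} (f : A ⟶ B) (t : Coh.Γtop Y) :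
    Euler.smulMod A t ≫ f = f ≫ Euler.smulMod B t := by
  refine Scheme.Modules.hom_ext _ _ fun U => AddCommGrpCat.ext fun m => ?_
  exact (QCoh.appLinear f U).map_smul (show Γ(Y, U) from Coh.resTop Y (op U) t) m

variable (X : Scheme.{u})

abbrev tC : Coh.Γtop 𝔸(n₁; X) := AffineSpace.coord X t₀

theorem killed_of_smul_zero {M : 𝔸(n₁; X).Modules} (hM : Coh.IsCoh M)
    (h : Euler.smulMod M (tC X) = 0) : killedP (sec X) M := by
  refine ⟨hM, fun U a ha m => ?_⟩
  refine QCoh.section_eq_zero_of_germ M _ fun x hx => ?_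
  have hg : 𝔸(n₁; X).presheaf.germ U.1 x hx a ∈ stalkIdeal (sec X).ker x := by
    rw [stalkIdeal_eq _ U hx]
    exact Ideal.mem_map_of_mem _ ha
  rw [stalkIdeal_ker_sec, Ideal.mem_span_singleton'] at hg
  obtain ⟨c, hc⟩ := hg
  change M.presheaf.germ U.1 x hx (a • m) = 0
  rw [WeakAss.germ_smul, ← hc, mul_smul]
  have h0 : 𝔸(n₁; X).presheaf.germ ⊤ x trivial (tC X) • M.presheaf.germ U.1 x hx m = 0 := by
    rw [← Euler.stalkLin_smulMod, h, Kodaira.stalkLin_zero_apply]
  rw [show 𝔸(n₁; X).presheaf.germ ⊤ x trivial (AffineSpace.coord X t₀) • M.presheaf.germ U.1 x hx m = 0 from h0,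
    smul_zero]

theorem killed_kernel [IsLocallyNoetherian 𝔸(n₁; X)] {F : 𝔸(n₁; X).Modules} (hF : Coh.IsCoh F) :
    killedP (sec X) (kernel (Euler.smulMod F (tC X))) := by
  refine killed_of_smul_zero X (QCoh.isCoh_kernel _ hF hF) ?_
  rw [← cancel_mono (kernel.ι (Euler.smulMod F (tC X))), smulMod_naturality, zero_comp, kernel.condition]

theorem killed_cokernel [IsLocallyNoetherian 𝔸(n₁; X)] {F : 𝔸(n₁; X).Modules} (hF : Coh.IsCoh F) :
    killedP (sec X) (cokernel (Euler.smulMod F (tC X))) := by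
  refine killed_of_smul_zero X (QCoh.isCoh_cokernel _ hF hF) ?_
  rw [← cancel_epi (cokernel.π (Euler.smulMod F (tC X))), ← smulMod_naturality, comp_zero, cokernel.condition]

/-- The specialisation map. -/
theorem exists_psi [IsLocallyNoetherian 𝔸(n₁; X)] :
    ∃ ψ : KZero.K0sub (cohP 𝔸(n₁; X)) →+ KZero.K0sub (killedP (sec X)), ∀ F, Coh.IsCoh F →
      ψ (KZero.clSub (cohP 𝔸(n₁; X)) F) =
        kc (sec X) (cokernel (Euler.smulMod F (tC X))) - kc (sec X) (kernel (Euler.smulMod F (tC X))) := by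
  refine exists_lift (P := cohP 𝔸(n₁; X))
    (fun F => kc (sec X) (cokernel (Euler.smulMod F (tC X))) - kc (sec X) (kernel (Euler.smulMod F (tC X))))
    fun S hS h₁ h₂ h₃ => ?_
  haveI := hS.mono_f
  haveI := hS.epi_g
  let φ : S ⟶ S := ShortComplex.homMk (Euler.smulMod S.X₁ (tC X)) (Euler.smulMod S.X₂ (tC X))
    (Euler.smulMod S.X₃ (tC X)) (smulMod_naturality S.f _) (smulMod_naturality S.g _)
  let L₀ : ShortComplex 𝔸(n₁; X).Modules := ShortComplex.mk
    (kernel.map _ _ S.f S.f (smulMod_naturality S.f (tC X))) (kernel.map _ _ S.g S.g (smulMod_naturality S.g (tC X)))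
    ((cancel_mono (kernel.ι _)).1 (by simp))
  let L₃ : ShortComplex 𝔸(n₁; X).Modules := ShortComplex.mk
    (cokernel.map _ _ S.f S.f (smulMod_naturality S.f (tC X))) (cokernel.map _ _ S.g S.g (smulMod_naturality S.g (tC X)))
    ((cancel_epi (cokernel.π _)).1 (by simp))
  let v₀₁ : L₀ ⟶ S := ShortComplex.homMk (kernel.ι _) (kernel.ι _) (kernel.ι _) (by simp [L₀]) (by simp [L₀])
  let v₂₃ : S ⟶ L₃ := ShortComplex.homMk (cokernel.π _) (cokernel.π _) (cokernel.π _) (by simp [L₃]) (by simp [L₃])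
  let I : ShortComplex.SnakeInput 𝔸(n₁; X).Modules :=
    { L₀ := L₀, L₁ := S, L₂ := S, L₃ := L₃, v₀₁ := v₀₁, v₁₂ := φ, v₂₃ := v₂₃
      w₀₂ := by ext <;> simp [v₀₁, φ]
      w₁₃ := by ext <;> simp [v₂₃, φ]
      h₀ := by
        apply ShortComplex.isLimitOfIsLimitπ
        all_goals refine (KernelFork.isLimitMapConeEquiv (KernelFork.ofι v₀₁ ?_) _).symm ?_
        all_goals exact kernelIsKernel _
      h₃ := by
        apply ShortComplex.isColimitOfIsColimitπ
        all_goals refine (CokernelCofork.isColimitMapCoconeEquiv (CokernelCofork.ofπ v₂₃ ?_) _).symm ?_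
        all_goals exact cokernelIsCokernel _
      L₁_exact := hS.exact, epi_L₁_g := inferInstance, L₂_exact := hS.exact, mono_L₂_f := inferInstance }
  haveI : Mono L₀.f := inferInstanceAs (Mono I.L₀.f)
  haveI : Epi L₃.g := inferInstanceAs (Epi I.L₃.g)
  have a := killed_kernel X h₁
  have b := killed_kernel X h₂
  have c := killed_kernel X h₃
  have a' := killed_cokernel X h₁
  have b' := killed_cokernel X h₂
  have c' := killed_cokernel X h₃
  have e₁ := kc_exact (sec X) L₀ I.L₀_exact a b c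
  have e₂ := kc_exact (sec X) (ShortComplex.mk L₀.g I.δ I.L₀_g_δ) I.L₁'_exact b c a'
  have e₃ := kc_exact (sec X) (ShortComplex.mk I.δ L₃.f I.δ_L₃_f) I.L₂'_exact c a' b'
  have e₄ := kc_exact (sec X) L₃ I.L₃_exact a' b' c'
  rw [kc_image_mono (sec X) L₀.f a] at e₁
  rw [kc_image_epi (sec X) L₃.g c'] at e₄
  dsimp only [L₀, L₃] at e₁ e₂ e₃ e₄ ⊢
  rw [e₁, e₂, e₃, e₄]
  abel

/-- On a principal closed subscheme multiplication by the equation gives a short exact sequence. -/
theorem exists_shortExact_principal {W Z : Scheme.{u}} [IsIntegral W] [IsLocallyNoetherian W] (i : Z ⟶ W)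
    [IsClosedImmersion i] (t : Γ(W, ⊤)) (ht : t ≠ 0)
    (h : ∀ x, stalkIdeal i.ker x = Ideal.span {W.presheaf.germ ⊤ x trivial t}) :
    ∃ (q : Coh.structureModule W ⟶ (Coh.push i).obj (Coh.structureModule Z))
      (w : Euler.smulMod (Coh.structureModule W) t ≫ q = 0),
      (ShortComplex.mk (Euler.smulMod (Coh.structureModule W) t) q w).ShortExact := by
  let O := Coh.structureModule W
  let f : O ⟶ O := Euler.smulMod O t
  have hv : ∀ x, stalkLin f x (HomSh.unitStalk x 1) = HomSh.unitStalk x (W.presheaf.germ ⊤ x trivial t) := by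
    intro x
    rw [Euler.stalkLin_smulMod, ← (HomSh.unitStalk x).map_smul, smul_eq_mul, mul_one]
  have hinj : ∀ x, Function.Injective (stalkLin f x) := by
    intro x a b hab
    rw [Euler.stalkLin_smulMod, Euler.stalkLin_smulMod] at hab
    obtain ⟨a, rfl⟩ := (HomSh.unitStalk x).surjective a
    obtain ⟨b, rfl⟩ := (HomSh.unitStalk x).surjective b
    rw [← (HomSh.unitStalk x).map_smul, ← (HomSh.unitStalk x).map_smul] at hab
    refine congrArg _ (mul_left_cancel₀ (fun h0 => ht ?_) ((HomSh.unitStalk x).injective hab))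
    haveI : Nonempty (⊤ : W.Opens) := ⟨⟨x, trivial⟩⟩
    exact germ_injective_of_isIntegral W x (U := ⊤) trivial (h0.trans (map_zero _).symm)
  let D := i.ker
  let g : ClSub.idealMod D ⟶ O := ClSub.idealModι D
  have hr : ∀ x, LinearMap.range (stalkLin f x) = LinearMap.range (stalkLin g x) := fun x => by
    rw [HodgeIndex.range_idealModι, ArSurf29.goodman_st_eq, h x]
    exact ArSurf29.range_stalkLin_eq_span f (Ref1.gen_unitStalk x) (hv x)
  have hz : f ≫ ClSub.toSubscheme D = 0 := by
    refine Scheme.Modules.hom_ext _ _ fun U => AddCommGrpCat.ext fun s => ?_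
    refine QCoh.section_eq_zero_of_germ (ClSub.quotMod D) _ fun x hx => ?_
    have e := QCoh.stalkLin_germ (f ≫ ClSub.toSubscheme D) hx s
    rw [HodgeIndex.stalkLin_comp_apply] at e
    refine e.symm.trans ?_
    obtain ⟨w, hw⟩ : stalkLin f x (O.presheaf.germ U x hx s) ∈ LinearMap.range (stalkLin g x) := by
      rw [← hr x]; exact LinearMap.mem_range_self _ _
    rw [← hw, ← HodgeIndex.stalkLin_comp_apply, show g ≫ ClSub.toSubscheme D = 0 from kernel.condition _,
      Kodaira.stalkLin_zero_apply]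
  haveI : Mono g := inferInstanceAs (Mono (kernel.ι _))
  let l : O ⟶ ClSub.idealMod D := kernel.lift (ClSub.toSubscheme D) f hz
  have hl : l ≫ g = f := kernel.lift_ι _ _ _
  haveI : IsIso l := (OX.isIso_iff l).2 fun x => (ConcreteCategory.isIso_iff_bijective _).2 ⟨fun a b hab => hinj x ?_, fun w => ?_⟩
  · let φ : Z ≅ D.subscheme := asIso i.toImage
    let a : (Coh.push i).obj (Coh.structureModule Z) ≅ ClSub.quotMod D :=
      (Scheme.Modules.pushforwardCongr i.toImage_imageι.symm).app _ ≪≫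
      (Scheme.Modules.pushforwardComp i.toImage i.imageι).symm.app _ ≪≫
      (Scheme.Modules.pushforward i.imageι).mapIso (unitIso i.toImage).symm
    haveI := Euler.epi_toSubscheme D
    have hS : (ShortComplex.mk g (ClSub.toSubscheme D) (kernel.condition _)).ShortExact :=
      { exact := ShortComplex.exact_of_f_is_kernel _ (kernelIsKernel (ClSub.toSubscheme D)) }
    have w : f ≫ ClSub.toSubscheme D ≫ a.inv = 0 := by rw [← Category.assoc, hz, zero_comp]
    let e' : ShortComplex.mk g (ClSub.toSubscheme D) (kernel.condition _) ≅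
        ShortComplex.mk f (ClSub.toSubscheme D ≫ a.inv) w :=
      ShortComplex.isoMk (asIso l).symm (Iso.refl _) a.symm (by simp [← hl]) (by simp)
    exact ⟨_, w, ShortComplex.shortExact_of_iso e' hS⟩
  · have hab' : stalkLin l x a = stalkLin l x b := hab
    rw [← hl, HodgeIndex.stalkLin_comp_apply, HodgeIndex.stalkLin_comp_apply, hab']
  · obtain ⟨v, hv⟩ : stalkLin g x w ∈ LinearMap.range (stalkLin f x) := by
      rw [hr x]; exact LinearMap.mem_range_self _ _
    refine ⟨v, QCoh.stalkLin_injective g x ?_⟩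
    rw [← hv, ← hl, HodgeIndex.stalkLin_comp_apply]
    rfl

/-- A line over a closed subscheme specialises to the subscheme. -/
theorem kc_push_map [IsLocallyNoetherian 𝔸(n₁; X)] {Z : Scheme.{u}} (y : Z ⟶ X) [IsClosedImmersion y]
    [IsIntegral Z] [IsLocallyNoetherian X] :
    ∀ ψ : KZero.K0sub (cohP 𝔸(n₁; X)) →+ KZero.K0sub (killedP (sec X)),
      (∀ F, Coh.IsCoh F → ψ (KZero.clSub (cohP 𝔸(n₁; X)) F) =
        kc (sec X) (cokernel (Euler.smulMod F (tC X))) - kc (sec X) (kernel (Euler.smulMod F (tC X)))) →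
      ψ (KZero.clSub (cohP 𝔸(n₁; X))
          ((Coh.push (AffineSpace.map n₁ y)).obj (Coh.structureModule 𝔸(n₁; Z)))) =
        kc (sec X) ((Coh.push (sec X)).obj ((Coh.push y).obj (Coh.structureModule Z))) := by
  intro ψ hψ
  let m : 𝔸(n₁; Z) ⟶ 𝔸(n₁; X) := AffineSpace.map n₁ y
  haveI : IsClosedImmersion m :=
    MorphismProperty.of_isPullback (AffineSpace.isPullback_map y).flip inferInstance
  haveI : IsLocallyNoetherian Z := LocallyOfFiniteType.isLocallyNoetherian y
  haveI : IsIntegral 𝔸(n₁.{u}; Z) := PicAff26.isIntegral_affineSpace n₁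
  haveI : IsLocallyNoetherian 𝔸(n₁; Z) := LocallyOfFiniteType.isLocallyNoetherian m
  obtain ⟨_, _, _⟩ := pushforward_exact m
  have ht : AffineSpace.coord Z t₀ ≠ 0 := fun h0 => by
    have h1 := AffineSpace.homOfVector_appTop_coord (𝟙 Z) (fun _ : n₁ => (1 : Γ(Z, ⊤))) t₀
    rw [h0, map_zero] at h1
    exact zero_ne_one h1
  obtain ⟨q, w, hS⟩ := exists_shortExact_principal (sec Z) (AffineSpace.coord Z t₀) ht (stalkIdeal_ker_sec Z)
  have hT := hS.map_of_exact (Scheme.Modules.pushforward m)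
  have hm : (Scheme.Modules.pushforward m).map (Euler.smulMod (Coh.structureModule 𝔸(n₁; Z)) (AffineSpace.coord Z t₀)) =
      Euler.smulMod ((Scheme.Modules.pushforward m).obj (Coh.structureModule 𝔸(n₁; Z))) (tC X) := by
    refine Scheme.Modules.hom_ext _ _ fun U => AddCommGrpCat.ext fun s => ?_
    change (Euler.smulMod (Coh.structureModule 𝔸(n₁; Z)) (AffineSpace.coord Z t₀)).app (m ⁻¹ᵁ U) s =
      (Euler.smulMod ((Scheme.Modules.pushforward m).obj (Coh.structureModule 𝔸(n₁; Z))) (tC X)).app U s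
    rw [Euler.smulMod_app, Euler.smulMod_app]
    change _ = (m.app U).hom (𝔸(n₁; X).presheaf.map (homOfLE (le_top : U ≤ ⊤)).op (tC X)) •
      (show Γ(Coh.structureModule 𝔸(n₁; Z), m ⁻¹ᵁ U) from s)
    congr 1
    rw [← AffineSpace.map_appTop_coord y t₀, ← CommRingCat.comp_apply, ← CommRingCat.comp_apply, m.naturality]
    rfl
  haveI hmono : Mono (Euler.smulMod ((Coh.push m).obj (Coh.structureModule 𝔸(n₁; Z))) (tC X)) := by
    rw [← hm]
    exact hT.mono_f
  have hF : Coh.IsCoh ((Coh.push m).obj (Coh.structureModule 𝔸(n₁; Z))) := QCoh.pushUnit_isCoh m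
  rw [hψ _ hF, kc, kc, clSub_isZero (isZero_kernel_of_mono _), sub_zero]
  have e₁ : cokernel (Euler.smulMod ((Coh.push m).obj (Coh.structureModule 𝔸(n₁; Z))) (tC X)) ≅
      (Coh.push m).obj ((Coh.push (sec Z)).obj (Coh.structureModule Z)) :=
    cokernelIsoOfEq hm.symm ≪≫ (cokernelIsCokernel _).coconePointUniqueUpToIso hT.gIsCokernel
  have hc : sec Z ≫ m = y ≫ sec X := by
    apply AffineSpace.hom_ext
    · simp [sec, m]
    · intro i
      simp [sec, m]
  exact kc_iso (sec X) (e₁ ≪≫ (Scheme.Modules.pushforwardComp (sec Z) m).app _ ≪≫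
    (Scheme.Modules.pushforwardCongr hc).app _ ≪≫
    (Scheme.Modules.pushforwardComp y (sec X)).symm.app _) (killed_cokernel X hF)

end GrothLib.Torus17
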